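import Cfsg.Agent.H904.TwoHS

/-!
# ISOLATED primes for `HS` (helper904)

`card_eleven`, `card_seven` : in `HS` the elements of order `11` (`7`) have centralizers of order `11` (`7`).
-/

set_option autoImplicit false

namespace Cfsg.Agent.H904.HSIso

open Subgroup Cfsg.Agent.H904.TwoHS

universe u

variable {L : Type u} [Group L]

theorem card_eleven (h : Cfsg.Spor.IsoHS L) {x : L} (hx : orderOf x = 11) :
    Nat.card (centralizer ({x} : Set L)) = 11 := by
  have hfin : Finite L := by
    obtain ⟨D, -, -⟩ := HSCent.exists_rep h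
    exact KFacts.HS.DFour.fin D
  obtain ⟨-, -, H⟩ := eleven h
  rw [← SylOne.centralizer_zpowers_eq]
  exact (H (zpowers x) (by rw [Nat.card_zpowers, hx])).1

theorem card_seven (h : Cfsg.Spor.IsoHS L) {x : L} (hx : orderOf x = 7) :
    Nat.card (centralizer ({x} : Set L)) = 7 := by
  have hfin : Finite L := by
    obtain ⟨D, -, -⟩ := HSCent.exists_rep h
    exact KFacts.HS.DFour.fin D
  have h1 := (seven h (zpowers x) (by rw [Nat.card_zpowers, hx])).1
  rw [SylOne.centralizer_zpowers_eq] at h1
  have h7 : 7 ∣ Nat.card (centralizer ({x} : Set L)) := by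
    have h2 : zpowers x ≤ centralizer ({x} : Set L) := by
      rw [zpowers_le, mem_centralizer_singleton_iff]
    have h3 := Subgroup.card_dvd_of_le h2
    rwa [Nat.card_zpowers, hx] at h3
  have h2 : ¬ 2 ∣ Nat.card (centralizer ({x} : Set L)) := by
    intro h2
    have : Fact (Nat.Prime 2) := ⟨Nat.prime_two⟩
    obtain ⟨t, ht⟩ := exists_prime_orderOf_dvd_card' 2 h2
    have ht' : orderOf (t : L) = 2 := by rw [Subgroup.orderOf_coe, ht]
    have hxt : (t : L) * x = x * t := mem_centralizer_singleton_iff.1 t.2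
    have h3 : zpowers x ≤ centralizer ({(t : L)} : Set L) := by
      rw [zpowers_le, mem_centralizer_singleton_iff]
      exact hxt.symm
    have h4 := Subgroup.card_dvd_of_le h3
    rw [Nat.card_zpowers, hx] at h4
    obtain ⟨-, -, ψ, -, -, -, -, -, hc, -⟩ := classes h
    have h5 : (t : L) * t = 1 := by rw [← pow_two, ← ht', pow_orderOf_eq_one]
    have h6 : (t : L) ≠ 1 := by
      intro h
      rw [h, orderOf_one] at ht'
      omega
    rcases hc t h5 h6 with h7 | h7
    · rw [h7.2.2] at h4; omega
    · rw [h7.2.2] at h4; omega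
  obtain ⟨c, hc⟩ := h7
  rw [hc] at h1 h2 ⊢
  have h3 : c ∣ 2 := Nat.dvd_of_mul_dvd_mul_left (by norm_num : 0 < 7) (by simpa using h1)
  rcases (Nat.dvd_prime Nat.prime_two).1 h3 with rfl | rfl
  · rfl
  · omega

end Cfsg.Agent.H904.HSIso
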