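import Mathlib

/-!
# Centralizers and normalizers of a Sylow subgroup of order `p` (helper904)

`main` : if `p ∥ |T|` and `orderOf x = p` then for every subgroup `P` of order `p`:
`|C(P)| = |C(x)| = p K`, `|N(P)| = p K e`, `e ∣ p - 1`, `|T| = p K e s`, `s ≡ 1 (mod p)`.
-/

set_option autoImplicit false

namespace Cfsg.Agent.H904.SylOne

open Subgroup

universe u

variable {T : Type u} [Group T] [Finite T] {p : ℕ} [hp : Fact p.Prime]

theorem factorization_eq_one {n : ℕ} (hn : n ≠ 0) (h1 : p ∣ n) (h2 : ¬ p ^ 2 ∣ n) : n.factorization p = 1 := by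
  have h4 : 1 ≤ n.factorization p := (hp.out.dvd_iff_one_le_factorization hn).1 h1
  have h5 : ¬ 2 ≤ n.factorization p := fun h => h2 ((hp.out.pow_dvd_iff_le_factorization hn).2 h)
  omega

/-- a subgroup of order `p` as a Sylow subgroup -/
theorem exists_sylow {P : Subgroup T} (hP : Nat.card P = p) (hp2 : ¬ p ^ 2 ∣ Nat.card T) :
    ∃ S : Sylow p T, (S : Subgroup T) = P := by
  have h1 : p ∣ Nat.card T := by rw [← hP]; exact Subgroup.card_subgroup_dvd_card P
  refine ⟨Sylow.ofCard P ?_, rfl⟩
  rw [hP, factorization_eq_one (Nat.card_pos).ne' h1 hp2, pow_one]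

theorem card_nc {P : Subgroup T} (hP : Nat.card P = p) :
    ∃ e, e ∣ p - 1 ∧ Nat.card (normalizer (P : Set T)) = Nat.card (centralizer (P : Set T)) * e := by
  have hcyc : IsCyclic P := isCyclic_of_prime_card hP
  have : Finite (MulAut P) := Finite.of_injective (fun f : MulAut P => (f : P → P)) DFunLike.coe_injective
  refine ⟨Nat.card P.normalizerMonoidHom.range, ?_, ?_⟩
  · have h1 := Subgroup.card_subgroup_dvd_card P.normalizerMonoidHom.range
    rwa [IsCyclic.card_mulAut, hP, Nat.totient_prime hp.out] at h1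
  · have h1 : Nat.card (normalizer (P : Set T)) = Nat.card P.normalizerMonoidHom.ker *
        Nat.card P.normalizerMonoidHom.range := by
      rw [Nat.card_congr (QuotientGroup.quotientKerEquivRange P.normalizerMonoidHom).toEquiv.symm, mul_comm]
      exact Subgroup.card_eq_card_quotient_mul_card_subgroup _
    rw [h1, Subgroup.normalizerMonoidHom_ker]
    congr 1
    exact Nat.card_congr (Subgroup.subgroupOfEquivOfLe (Subgroup.centralizer_le_normalizer _)).toEquiv

theorem card_centralizer_map (P : Subgroup T) (g : T) :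
    Nat.card (centralizer ((P.map (MulAut.conj g).toMonoidHom : Subgroup T) : Set T)) =
      Nat.card (centralizer (P : Set T)) := by
  have h : ∀ (Q : Subgroup T) (h : T), Nat.card (centralizer (Q : Set T)) ≤
      Nat.card (centralizer ((Q.map (MulAut.conj h).toMonoidHom : Subgroup T) : Set T)) := by
    intro Q h
    refine Nat.card_le_card_of_injective (fun c => ⟨h * c.1 * h⁻¹, ?_⟩) ?_
    · rw [Subgroup.mem_centralizer_iff]
      rintro _ ⟨q, hq, rfl⟩
      have h1 := Subgroup.mem_centralizer_iff.1 c.2 q hq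
      change h * q * h⁻¹ * (h * c.1 * h⁻¹) = h * c.1 * h⁻¹ * (h * q * h⁻¹)
      calc h * q * h⁻¹ * (h * c.1 * h⁻¹) = h * (q * c.1) * h⁻¹ := by group
        _ = h * (c.1 * q) * h⁻¹ := by rw [h1]
        _ = _ := by group
    · intro a b hab
      have h1 := congrArg Subtype.val hab
      apply Subtype.ext
      simpa using h1
  apply le_antisymm
  · have h1 := h (P.map (MulAut.conj g).toMonoidHom) g⁻¹
    have h2 : (P.map (MulAut.conj g).toMonoidHom).map (MulAut.conj g⁻¹).toMonoidHom = P := by
      ext y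
      constructor
      · rintro ⟨_, ⟨z, hz, rfl⟩, rfl⟩
        have : (MulAut.conj g⁻¹).toMonoidHom ((MulAut.conj g).toMonoidHom z) = z := by
          change g⁻¹ * (g * z * g⁻¹) * g⁻¹⁻¹ = z
          group
        rw [this]
        exact hz
      · intro hy
        refine ⟨_, ⟨y, hy, rfl⟩, ?_⟩
        change g⁻¹ * (g * y * g⁻¹) * g⁻¹⁻¹ = y
        group
    rwa [h2] at h1
  · exact h P g

theorem card_centralizer_eq {P Q : Subgroup T} (hP : Nat.card P = p) (hQ : Nat.card Q = p)
    (hp2 : ¬ p ^ 2 ∣ Nat.card T) : Nat.card (centralizer (P : Set T)) = Nat.card (centralizer (Q : Set T)) := by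
  obtain ⟨S, hS⟩ := exists_sylow hP hp2
  obtain ⟨S', hS'⟩ := exists_sylow hQ hp2
  obtain ⟨g, hg⟩ := MulAction.exists_smul_eq T S S'
  have h1 : Q = P.map (MulAut.conj g).toMonoidHom := by
    rw [← hS, ← hS', ← hg]
    rfl
  rw [h1]
  exact (card_centralizer_map P g).symm

theorem card_normalizer_mod {P : Subgroup T} (hP : Nat.card P = p) (hp2 : ¬ p ^ 2 ∣ Nat.card T) :
    ∃ s, Nat.card T = Nat.card (normalizer (P : Set T)) * s ∧ s ≡ 1 [MOD p] := by
  obtain ⟨S, hS⟩ := exists_sylow hP hp2
  refine ⟨(normalizer (P : Set T)).index, (Subgroup.card_mul_index _).symm, ?_⟩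
  have h1 := card_sylow_modEq_one p T
  rw [Sylow.card_eq_index_normalizer S] at h1
  have h2 : (S : Set T) = (P : Set T) := by rw [← hS]; rfl
  rwa [h2] at h1

theorem centralizer_zpowers_eq (x : T) : centralizer ((zpowers x : Subgroup T) : Set T) = centralizer {x} := by
  ext g
  rw [mem_centralizer_singleton_iff, Subgroup.mem_centralizer_iff]
  constructor
  · intro h
    exact (h x (mem_zpowers x)).symm
  · rintro h _ ⟨k, rfl⟩
    exact ((Commute.zpow_right (show Commute g x from h) k).eq).symm

/-- **the data** -/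
theorem main (hp2 : ¬ p ^ 2 ∣ Nat.card T) {x : T} (hx : orderOf x = p) : ∃ K e s : ℕ, e ∣ p - 1 ∧
    Nat.card (centralizer ({x} : Set T)) = p * K ∧ Nat.card T = p * K * e * s ∧ s ≡ 1 [MOD p] ∧
    ∀ P : Subgroup T, Nat.card P = p → Nat.card (centralizer (P : Set T)) = p * K ∧
      Nat.card (normalizer (P : Set T)) = p * K * e := by
  have hP : Nat.card (zpowers x) = p := by rw [Nat.card_zpowers, hx]
  obtain ⟨K, hK⟩ : p ∣ Nat.card (centralizer ({x} : Set T)) := by
    have h1 : zpowers x ≤ centralizer ({x} : Set T) := by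
      rw [zpowers_le, mem_centralizer_singleton_iff]
    have h2 := Subgroup.card_dvd_of_le h1
    rwa [hP] at h2
  obtain ⟨e, he, hN⟩ := card_nc hP
  obtain ⟨s, hs1, hs2⟩ := card_normalizer_mod hP hp2
  rw [centralizer_zpowers_eq, hK] at hN
  refine ⟨K, e, s, he, hK, by rw [← hN]; exact hs1, hs2, fun Q hQ => ?_⟩
  have h1 : Nat.card (centralizer (Q : Set T)) = p * K := by
    rw [card_centralizer_eq hQ hP hp2, centralizer_zpowers_eq, hK]
  refine ⟨h1, ?_⟩
  obtain ⟨S, hS⟩ := exists_sylow hP hp2
  obtain ⟨S', hS'⟩ := exists_sylow hQ hp2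
  have h2 : Nat.card (normalizer (Q : Set T)) = Nat.card (normalizer ((zpowers x : Subgroup T) : Set T)) := by
    have h3 := Sylow.card_eq_index_normalizer S
    have h4 := Sylow.card_eq_index_normalizer S'
    have h5 : (S : Set T) = ((zpowers x : Subgroup T) : Set T) := by rw [← hS]; rfl
    have h6 : (S' : Set T) = (Q : Set T) := by rw [← hS']; rfl
    rw [h5] at h3
    rw [h6] at h4
    have h7 := Subgroup.card_mul_index (normalizer (Q : Set T))
    have h8 := Subgroup.card_mul_index (normalizer ((zpowers x : Subgroup T) : Set T))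
    rw [← h4] at h7
    rw [← h3] at h8
    exact Nat.eq_of_mul_eq_mul_right Nat.card_pos (h7.trans h8.symm)
  rw [h2, hN]

end Cfsg.Agent.H904.SylOne
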