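import Cfsg.Agent.H221.ClassCount
import Cfsg.Agent.H384.TwoTransRed

/-!
# Class counting for the rows of the table of 2-transitive groups (helper904)

* `pair_count` : `n (n - 1) |C ∩ G_ab| = |C| f (f - 1)`;
* `class_data` : the numerical consequences for a conjugacy class of the socle `T` invariant under `Aut(T)`;
* `card_involutions_le` : at most `(|P| - 1) |G : P|` involutions, `P` a Sylow `2`-subgroup;
* `card_dvd_of_free` : the order of a subgroup acting freely divides the degree.
-/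

set_option autoImplicit false

namespace Cfsg.Agent.H904.PairCount

open MulAction Subgroup Cfsg.Agent.H221 Cfsg.Agent.H221.ClassCount Cfsg.Agent.H384.TwoTrans

section

variable {G Ω : Type*} [Group G] [MulAction G Ω]

theorem card_emb (X : Type*) [Finite X] : Nat.card (Fin 2 ↪ X) = Nat.card X * (Nat.card X - 1) := by
  classical
  have := Fintype.ofFinite X
  rw [Nat.card_eq_fintype_card, Nat.card_eq_fintype_card, Fintype.card_embedding_eq, Fintype.card_fin]
  simp [Nat.descFactorial_succ, mul_comm]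

theorem fixed_emb [Finite Ω] (y : G) {f : ℕ} (hf : (fixedBy Ω y).ncard = f) :
    (fixedBy (Fin 2 ↪ Ω) y).ncard = f * (f - 1) := by
  rw [← hf, ← Nat.card_coe_set_eq (fixedBy Ω y), ← card_emb, ← Nat.card_coe_set_eq]
  refine Nat.card_congr
    { toFun := fun e => ⟨fun i => ⟨e.1 i, ?_⟩, fun i j h => e.1.injective (congrArg Subtype.val h)⟩
      invFun := fun e => ⟨⟨fun i => (e i).1, fun i j h => e.injective (Subtype.ext h)⟩, ?_⟩
      left_inv := fun e => rfl
      right_inv := fun e => rfl }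
  · have h1 : y • e.1 = e.1 := e.2
    exact congrArg (fun e : Fin 2 ↪ Ω => e i) h1
  · change y • _ = _
    ext i
    exact (e i).2

theorem pair_count [Finite G] [Finite Ω] (h2 : IsMultiplyPretransitive G Ω 2) {C : Set G} (hC : ClassCount.Inv C) {f : ℕ}
    (hf : ∀ y ∈ C, (fixedBy Ω y).ncard = f) {a b : Ω} (hab : a ≠ b) :
    Nat.card Ω * (Nat.card Ω - 1) * {y ∈ C | y • a = a ∧ y • b = b}.ncard = C.ncard * (f * (f - 1)) := by
  have : IsPretransitive G (Fin 2 ↪ Ω) := h2
  let e : Fin 2 ↪ Ω := ⟨![a, b], by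
    intro i j
    fin_cases i <;> fin_cases j <;> simp [hab, hab.symm]⟩
  have h1 := card_mul_ncard_fix (G := G) (Ω := Fin 2 ↪ Ω) hC e (fun y hy => fixed_emb y (hf y hy))
  rw [card_emb] at h1
  rw [← h1]
  congr 2
  ext y
  refine and_congr_right fun _ => ?_
  constructor
  · rintro ⟨ha, hb⟩
    ext i
    fin_cases i
    · exact ha
    · exact hb
  · intro h
    exact ⟨congrArg (fun e : Fin 2 ↪ Ω => e 0) h, congrArg (fun e : Fin 2 ↪ Ω => e 1) h⟩

end

theorem card_conjugatesOf_mul {G : Type*} [Group G] (t : G) :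
    Nat.card (conjugatesOf t) * Nat.card (centralizer ({t} : Set G)) = Nat.card G := by
  have h1 : conjugatesOf t = orbit (ConjAct G) t := by
    ext x
    rw [ConjAct.mem_orbit_conjAct]
    exact isConj_comm
  have h2 := Subgroup.card_mul_index (stabilizer (ConjAct G) t)
  rw [MulAction.index_stabilizer, ← Nat.card_coe_set_eq, ← h1] at h2
  rw [Subgroup.nat_card_centralizer_nat_card_stabilizer, mul_comm]
  exact h2

section

universe u v

variable {G : Type u} {Ω : Type v} [Group G] [MulAction G Ω] {T : Subgroup G}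

theorem class_data (A : AS G Ω T) (P : T → Prop) (hP : ∀ (α : MulAut T) (x : T), P x → P (α x)) {x0 : T}
    (h0 : P x0) (hne : x0 ≠ 1) (hall : ∀ x, P x → IsConj x0 x) {k : ℕ}
    (hk : Nat.card T = Nat.card (centralizer ({x0} : Set T)) * k) :
    ∃ f : ℕ, f < Nat.card Ω ∧ (∀ x : T, P x → (fixedBy Ω x).ncard = f) ∧ Nat.card Ω ∣ k * f ∧
      ((Nat.card Ω : ℤ) - 1) ∣ (k : ℤ) * ((f : ℤ) - 1) ∧
      ∀ a b : Ω, a ≠ b → Nat.card Ω * (Nat.card Ω - 1) * {x : T | P x ∧ x • a = a ∧ x • b = b}.ncard =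
        k * (f * (f - 1)) := by
  have := A.finG
  have := A.finΩ
  have := A.faithful
  have := A.normal
  have := A.finT
  have := A.nontrivialΩ
  have hfix : ∀ x : T, fixedBy Ω x = fixedBy Ω (x : G) := fun x => rfl
  have hconst : ∀ x : T, P x → (fixedBy Ω x).ncard = (fixedBy Ω x0).ncard := fun x hx => fix_conj x0 x (hall x hx)
  let C : Set G := {g | ∃ t : T, (t : G) = g ∧ P t}
  have hC : ClassCount.Inv C := by
    rintro g _ ⟨t, rfl, ht⟩
    exact ⟨MulAut.conjNormal g t, MulAut.conjNormal_apply g t, hP _ _ ht⟩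
  have hf : ∀ y ∈ C, (fixedBy Ω y).ncard = (fixedBy Ω x0).ncard := by
    rintro _ ⟨t, rfl, ht⟩
    exact hconst t ht
  have hcard : C.ncard = k := by
    have h1 : C = Subtype.val '' (conjugatesOf x0) := by
      ext g
      constructor
      · rintro ⟨t, rfl, ht⟩
        exact ⟨t, hall t ht, rfl⟩
      · rintro ⟨t, ht, rfl⟩
        obtain ⟨c, rfl⟩ := isConj_iff.1 (show IsConj x0 t from ht)
        exact ⟨_, rfl, hP (MulAut.conj c) x0 h0⟩
    rw [h1, Set.ncard_image_of_injective _ Subtype.val_injective, ← Nat.card_coe_set_eq]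
    have h2 := card_conjugatesOf_mul x0
    rw [hk, mul_comm] at h2
    exact Nat.eq_of_mul_eq_mul_left Nat.card_pos h2
  have h2 := A.two
  have hpre : IsPretransitive G Ω := isPretransitive_of_two h2
  obtain ⟨a0⟩ : Nonempty Ω := inferInstance
  refine ⟨(fixedBy Ω x0).ncard, ?_, hconst, ?_, ?_, fun a b hab => ?_⟩
  · refine lt_of_le_of_ne ?_ ?_
    · rw [← Set.ncard_univ]
      exact Set.ncard_le_ncard (Set.subset_univ _) (Set.toFinite _)
    · intro h
      apply hne
      have h3 : fixedBy Ω x0 = Set.univ := by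
        apply Set.eq_of_subset_of_ncard_le (Set.subset_univ _) _ (Set.toFinite _)
        rw [Set.ncard_univ, h]
      apply Subtype.ext
      refine FaithfulSMul.eq_of_smul_eq_smul (α := Ω) (fun c => ?_)
      have h4 : c ∈ fixedBy Ω x0 := by rw [h3]; trivial
      rw [Subgroup.coe_one, one_smul]
      exact h4
  · rw [← hcard, ← card_mul_ncard_fix hC a0 hf]
    exact Dvd.intro _ rfl
  · rw [← hcard]
    exact sub_one_dvd_fix h2 hC hf
  · rw [← hcard, ← pair_count h2 hC hf hab]
    congr 1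
    have h3 : {y ∈ C | y • a = a ∧ y • b = b} = Subtype.val '' {x : T | P x ∧ x • a = a ∧ x • b = b} := by
      ext g
      constructor
      · rintro ⟨⟨t, rfl, ht⟩, hta, htb⟩
        exact ⟨t, ⟨ht, hta, htb⟩, rfl⟩
      · rintro ⟨t, ⟨ht, hta, htb⟩, rfl⟩
        exact ⟨⟨t, rfl, ht⟩, hta, htb⟩
    rw [h3, Set.ncard_image_of_injective _ Subtype.val_injective]

end

/-- the number of involutions -/
theorem card_involutions_le {H : Type*} [Group H] [Finite H] (P : Sylow 2 H) :
    {x : H | x * x = 1 ∧ x ≠ 1}.ncard ≤ (Nat.card P - 1) * (P : Subgroup H).index := by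
  classical
  have h1 : ∀ x : {x : H | x * x = 1 ∧ x ≠ 1}, ∃ S : Sylow 2 H, (x : H) ∈ S := by
    rintro ⟨x, hx, hx1⟩
    have h2 : IsPGroup 2 (zpowers x) := by
      have h3 : orderOf x = 2 := orderOf_eq_prime (by rw [pow_two]; exact hx) hx1
      exact IsPGroup.of_card (n := 1) (by rw [Nat.card_zpowers, h3, pow_one])
    obtain ⟨S, hS⟩ := h2.exists_le_sylow
    exact ⟨S, hS (mem_zpowers x)⟩
  choose S hS using h1
  let f : {x : H | x * x = 1 ∧ x ≠ 1} → Σ S : Sylow 2 H, {y : S // y ≠ 1} := fun x =>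
    ⟨S x, ⟨⟨x, hS x⟩, fun h => x.2.2 (congrArg Subtype.val h)⟩⟩
  have hf : Function.Injective f := by
    intro x y hxy
    have h2 : ∀ σ τ : Σ S : Sylow 2 H, {y : S // y ≠ 1}, σ = τ → (σ.2.1 : H) = τ.2.1 := by
      rintro σ _ rfl
      rfl
    exact Subtype.ext (h2 _ _ hxy)
  have := Fintype.ofFinite (Sylow 2 H)
  have := Fintype.ofFinite H
  have h2 := Nat.card_le_card_of_injective f hf
  rw [Nat.card_coe_set_eq, Nat.card_sigma] at h2
  have h3 : ∀ S : Sylow 2 H, Nat.card {y : S // y ≠ 1} = Nat.card P - 1 := by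
    intro S
    have h4 : Nat.card S = Nat.card P := (Nat.card_congr (Sylow.equiv S P).toEquiv)
    have := Fintype.ofFinite S
    rw [← h4, Nat.card_eq_fintype_card, Nat.card_eq_fintype_card, Fintype.card_subtype_compl,
      Fintype.card_subtype_eq]
    exact congrArg (· - 1) (Fintype.card_congr (Equiv.refl _))
  rw [Finset.sum_congr rfl (fun S _ => h3 S), Finset.sum_const, smul_eq_mul, Finset.card_univ] at h2
  refine h2.trans ?_
  rw [mul_comm]
  refine Nat.mul_le_mul_left _ ?_
  have h5 := Sylow.card_dvd_index P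
  rw [← Nat.card_eq_fintype_card]
  exact Nat.le_of_dvd (Nat.pos_of_ne_zero Subgroup.index_ne_zero_of_finite) h5

/-- a subgroup acting freely -/
theorem card_dvd_of_free {X : Type*} [Finite X] (B : Subgroup (Equiv.Perm X)) (h : ∀ g ∈ B, g ≠ 1 → ∀ i, g i ≠ i) :
    Nat.card B ∣ Nat.card X := by
  apply dvd_card (G := Equiv.Perm X) (A := B)
  intro a
  have h1 := card_orbit_mul (A := B) a
  have h2 : B ⊓ stabilizer (Equiv.Perm X) a = ⊥ := by
    rw [eq_bot_iff]
    rintro g ⟨hg, hga⟩
    by_contra hcon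
    exact h g hg (fun h1 => hcon (by rw [h1]; exact Subgroup.one_mem _)) a hga
  rwa [h2, Subgroup.card_bot, mul_one] at h1

end Cfsg.Agent.H904.PairCount
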