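import Cfsg.Agent.H904.HSCent
import Cfsg.Agent.H904.PairCount
import Cfsg.Agent.H970.TwoSporBase

/-!
# HUB H1, part P11, row `HS` (helper904)

`row` : a 2-transitive group with socle `HS` has degree `176`.
-/

set_option autoImplicit false

namespace Cfsg.Agent.H904.TwoHS

open Subgroup MulAction Cfsg.Agent.H384.TwoTrans Cfsg.Agent.H970.StabNum Cfsg.Agent.H970.TwoSpor
  Cfsg.Agent.H904.HSCent Cfsg.Agent.H904.PairCount

universe u v

/-! ### the numerical data -/

def lHS : List (ℕ × ℕ) := [(2, 9), (3, 2), (5, 3), (7, 1), (11, 1)]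
def tHS : List ℕ := [60, 168, 360, 504, 660, 2520, 7920, 20160, 126000, 443520, 44352000]
def dHS : List (ℕ × ℕ × ℕ) := [(11, 1, 5), (7, 2, 6)]

theorem valid_lHS : OrdDiv.valid lHS 44352000 = true := by decide +kernel

section

variable {L : Type u} [Group L]

theorem eleven (h : Cfsg.Spor.IsoHS L) : ∃ x : L, orderOf x = 11 ∧ ∀ P : Subgroup L, Nat.card P = 11 →
    Nat.card (centralizer (P : Set L)) = 11 ∧ Nat.card (normalizer (P : Set L)) = 55 := by
  obtain ⟨D, ψ, R⟩ := exists_rep h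
  have := KFacts.HS.DFour.fin D
  have hN : Nat.card L = 44352000 := KFacts.HS.card h
  obtain ⟨x, hx, hC⟩ := R.exists_eleven
  have : Fact (Nat.Prime 11) := ⟨by norm_num⟩
  obtain ⟨K, e, s, he, hK, hT, hs, H⟩ := SylOne.main (p := 11) (by rw [hN]; norm_num) hx
  rw [hK] at hC
  rw [hN] at hT
  have hK1 : K = 1 := by
    have : K ≤ 1 := by omega
    interval_cases K
    · omega
    · rfl
  subst hK1
  have he' : e ≤ 10 := Nat.le_of_dvd (by norm_num) he
  have he5 : e = 5 := by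
    have h1 : s % 11 = 1 := hs
    have h2 : e * s = 4032000 := by
      have h4 : 11 * (e * s) = 44352000 := by rw [hT]; ring
      omega
    have h3 : (e * (s % 11)) % 11 = 5 := by rw [← Nat.mul_mod_mod, Nat.mod_mod, Nat.mul_mod_mod, h2]
    rw [h1, mul_one] at h3
    interval_cases e <;> omega
  subst he5
  exact ⟨x, hx, fun P hP => by simpa using H P hP⟩

theorem seven (h : Cfsg.Spor.IsoHS L) : ∀ P : Subgroup L, Nat.card P = 7 →
    Nat.card (centralizer (P : Set L)) ∣ 14 ∧ Nat.card (normalizer (P : Set L)) = 42 := by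
  obtain ⟨D, ψ, R⟩ := exists_rep h
  have := KFacts.HS.DFour.fin D
  have hN : Nat.card L = 44352000 := KFacts.HS.card h
  obtain ⟨x, hx, hC⟩ := R.exists_seven
  have : Fact (Nat.Prime 7) := ⟨by norm_num⟩
  obtain ⟨K, e, s, he, hK, hT, hs, H⟩ := SylOne.main (p := 7) (by rw [hN]; norm_num) hx
  rw [hK] at hC
  rw [hN] at hT
  have he' : e ≤ 6 := Nat.le_of_dvd (by norm_num) he
  have h1 : s % 7 = 1 := hs
  have hK2 : K ≤ 2 := by omega
  have key : (K = 1 ∧ e = 6) ∨ (K = 2 ∧ e = 3) := by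
    have h2 : K * e * s = 6336000 := by
      have h4 : 7 * (K * e * s) = 44352000 := by rw [hT]; ring
      omega
    have h3 : (K * e * (s % 7)) % 7 = 6 := by rw [← Nat.mul_mod_mod, Nat.mod_mod, Nat.mul_mod_mod, h2]
    rw [h1, mul_one] at h3
    interval_cases K <;> interval_cases e <;> omega
  rcases key with ⟨rfl, rfl⟩ | ⟨rfl, rfl⟩
  · intro P hP
    have := H P hP
    exact ⟨by rw [this.1]; norm_num, this.2⟩
  · intro P hP
    have := H P hP
    exact ⟨by rw [this.1], this.2⟩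

theorem data (OT : OrdDiv.OrderTable.{u})
    (hS : ∀ (X : Type u) [Group X] [Finite X] [IsSimpleGroup X], Cfsg.IsKnownSimple' X) (h : Cfsg.Spor.IsoHS L) :
    Data L dHS [2, 3, 5] tHS where
  fin := by
    obtain ⟨D, -, -⟩ := exists_rep h
    exact KFacts.HS.DFour.fin D
  lt := by rw [KFacts.HS.card h]; norm_num
  prime := by
    rw [KFacts.HS.card h]
    intro x hx
    simp only [dHS, List.mem_cons, List.not_mem_nil, or_false] at hx
    rcases hx with rfl | rfl <;> norm_num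
  cent := by
    intro x hx P hP
    simp only [dHS, List.mem_cons, List.not_mem_nil, or_false] at hx
    rcases hx with rfl | rfl
    · obtain ⟨-, -, H⟩ := eleven h
      obtain ⟨h1, h2⟩ := H P hP
      exact ⟨by rw [h1]; norm_num, by rw [h2]; norm_num⟩
    · obtain ⟨h1, h2⟩ := seven h P hP
      exact ⟨h1, by rw [h2]; norm_num⟩
  ps := by
    intro r hr
    simp only [List.mem_cons, List.not_mem_nil, or_false] at hr
    rcases hr with rfl | rfl | rfl <;> norm_num
  tbl := by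
    intro K _ _ hK hna hd
    rw [KFacts.HS.card h] at hd
    exact mem_tbl OT hS valid_lHS (by decide +kernel) K hK hna hd

theorem survives_HS : survives 44352000 2 [1, 2] lHS dHS [2, 3, 5] tHS = [385, 22, 176] := by decide +kernel

/-! ### degree 22 -/

theorem smul_iter {X : Type*} [MulAction L X] {x c : L} (hxc : x * c = c * x) {b : X} {r : ℕ} (h : x • b = c ^ r • b)
    (s : ℕ) : x ^ s • b = c ^ (r * s) • b := by
  induction s with
  | zero => simp
  | succ s ih =>
    have h1 : x * c ^ (r * s) = c ^ (r * s) * x := (Commute.pow_right (show Commute x c from hxc) _).eq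
    rw [pow_succ', mul_smul, ih, ← mul_smul, h1, mul_smul, h, ← mul_smul, ← pow_add]
    congr 2

/-- fewer than `25` points -/
theorem exists_pow {X : Type*} [Finite X] [MulAction L X] {u c : L} (hu : orderOf u = 5) (hc : orderOf c = 5)
    (huc : u * c = c * u) {a : X} (ha : c • a ≠ a) (hX : Nat.card X < 25) : ∃ r : ℕ, u • a = c ^ r • a := by
  by_contra hcon
  push Not at hcon
  have hu5 : ∀ m : ℕ, u ^ (5 * m) = 1 := fun m => by rw [pow_mul, ← hu, pow_orderOf_eq_one, one_pow]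
  have hc5 : ∀ m : ℕ, c ^ (5 * m) = 1 := fun m => by rw [pow_mul, ← hc, pow_orderOf_eq_one, one_pow]
  have inv5 : ∀ m : ℕ, 0 < m → m < 5 → ∃ s t : ℕ, m * s = 5 * t + 1 := by
    intro m h1 h2
    interval_cases m
    · exact ⟨1, 0, rfl⟩
    · exact ⟨3, 1, rfl⟩
    · exact ⟨2, 1, rfl⟩
    · exact ⟨4, 3, rfl⟩
  -- powers of `c`
  have hcc : ∀ m : ℕ, 0 < m → m < 5 → c ^ m • a ≠ a := by
    intro m h1 h2 h
    obtain ⟨s, t, hst⟩ := inv5 m h1 h2
    have h3 : ∀ k : ℕ, (c ^ m) ^ k • a = a := by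
      intro k
      induction k with
      | zero => simp
      | succ k ih => rw [pow_succ, mul_smul, h, ih]
    have h4 := h3 s
    rw [← pow_mul, hst, pow_add, hc5, one_mul, pow_one] at h4
    exact ha h4
  have hcu : ∀ (m j l : ℕ), 0 < m → m < 5 → u ^ m • c ^ l • a ≠ c ^ j • a := by
    intro m j l h1 h2 h
    obtain ⟨s, t, hst⟩ := inv5 m h1 h2
    have hum : u ^ m * c = c * u ^ m := (Commute.pow_left (show Commute u c from huc) _).eq
    have huml : u ^ m * c ^ l = c ^ l * u ^ m := (Commute.pow_right (show Commute (u ^ m) c from hum) _).eq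
    -- `u ^ m • a = c ^ r • a`
    have h3 : u ^ m • a = c ^ (j + 4 * l) • a := by
      have h4 : c ^ l • u ^ m • a = c ^ j • a := by rw [← mul_smul, ← huml, mul_smul, h]
      have h5 : c ^ (5 * l) • u ^ m • a = c ^ (j + 4 * l) • a := by
        have h6 : c ^ (4 * l) • c ^ l • u ^ m • a = c ^ (4 * l) • c ^ j • a := by rw [h4]
        rw [← mul_smul (c ^ (4 * l)), ← mul_smul (c ^ (4 * l)), ← pow_add, ← pow_add] at h6
        rw [show 5 * l = 4 * l + l by ring, h6, add_comm]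
      rwa [hc5, one_smul] at h5
    have h6 := smul_iter hum h3 s
    rw [← pow_mul, hst, pow_add, hu5, one_mul, pow_one] at h6
    exact hcon _ h6
  have hinj : Function.Injective (fun x : Fin 5 × Fin 5 => u ^ (x.1 : ℕ) • c ^ (x.2 : ℕ) • a) := by
    have key : ∀ i k : ℕ, i < k → k < 5 → ∀ j l : ℕ, u ^ i • c ^ j • a ≠ u ^ k • c ^ l • a := by
      intro i k hik hk j l h
      apply hcu (k - i) j l (by omega) (by omega)
      apply smul_left_cancel (u ^ i)
      rw [← mul_smul, ← pow_add, show i + (k - i) = k by omega]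
      exact h.symm
    have key2 : ∀ i k : ℕ, i < k → k < 5 → c ^ i • a ≠ c ^ k • a := by
      intro i k hik hk h
      apply hcc (k - i) (by omega) (by omega)
      apply smul_left_cancel (c ^ i)
      rw [← mul_smul, ← pow_add, show i + (k - i) = k by omega]
      exact h.symm
    rintro ⟨i, j⟩ ⟨k, l⟩ h
    simp only at h
    rcases lt_trichotomy (i : ℕ) k with h1 | h1 | h1
    · exact absurd h (key i k h1 k.2 j l)
    · have h2 : i = k := Fin.ext h1
      subst h2
      have h3 : c ^ (j : ℕ) • a = c ^ (l : ℕ) • a := smul_left_cancel _ h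
      rcases lt_trichotomy (j : ℕ) l with h4 | h4 | h4
      · exact absurd h3 (key2 j l h4 l.2)
      · rw [Fin.ext h4]
      · exact absurd h3.symm (key2 l j h4 j.2)
    · exact absurd h.symm (key k i h1 i.2 l j)
  have h1 := Nat.card_le_card_of_injective _ hinj
  rw [Nat.card_prod, Nat.card_eq_fintype_card, Fintype.card_fin] at h1
  omega

theorem le_card {X : Type*} [Finite X] [MulAction L X] [FaithfulSMul L X] (h : Cfsg.Spor.IsoHS L) :
    25 ≤ Nat.card X := by
  obtain ⟨D, ψ, R⟩ := exists_rep h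
  obtain ⟨u, v, c, hu, hv, hc, huc, hvc, huv⟩ := R.exists_five
  by_contra hcon
  push Not at hcon
  obtain ⟨a, ha⟩ : ∃ a : X, c • a ≠ a := by
    by_contra h1
    push Not at h1
    have : c = 1 := FaithfulSMul.eq_of_smul_eq_smul (α := X) (fun a => by rw [h1 a, one_smul])
    rw [this, orderOf_one] at hc
    omega
  obtain ⟨r, hr⟩ := exists_pow hu hc huc ha hcon
  obtain ⟨s, hs⟩ := exists_pow hv hc hvc ha hcon
  have h1 : u * c ^ s = c ^ s * u := (Commute.pow_right (show Commute u c from huc) _).eq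
  have h2 : v * c ^ r = c ^ r * v := (Commute.pow_right (show Commute v c from hvc) _).eq
  have e1 : (u * v) • a = c ^ (s + r) • a := by
    rw [mul_smul, hs, ← mul_smul, h1, mul_smul, hr, ← mul_smul, ← pow_add]
  have e2 : (v * u) • a = c ^ (s + r) • a := by
    rw [mul_smul, hr, ← mul_smul, h2, mul_smul, hs, ← mul_smul, ← pow_add, add_comm]
  rw [huv, mul_smul, e2, ← mul_smul, ← pow_succ', pow_succ, mul_smul] at e1
  exact ha (smul_left_cancel _ e1)

end

/-! ### degree 385 -/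

section

variable {G : Type u} {Ω : Type v} [Group G] [MulAction G Ω] {T : Subgroup G}

/-- the involutions with centralizer of order `m` -/
def Pm (T : Type*) [Group T] (m : ℕ) (x : T) : Prop :=
  x * x = 1 ∧ x ≠ 1 ∧ Nat.card (centralizer ({x} : Set T)) = m

theorem Pm_aut {T : Type*} [Group T] {m : ℕ} (α : MulAut T) (x : T) (h : Pm T m x) : Pm T m (α x) := by
  obtain ⟨h1, h2, h3⟩ := h
  refine ⟨by rw [← map_mul, h1, map_one], fun h => h2 ((map_eq_one_iff α α.injective).1 h), ?_⟩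
  rw [← h3]
  refine Nat.card_congr ⟨fun y => ⟨α.symm y.1, ?_⟩, fun y => ⟨α y.1, ?_⟩, fun y => ?_, fun y => ?_⟩
  · rw [mem_centralizer_singleton_iff]
    have h := mem_centralizer_singleton_iff.1 y.2
    apply α.injective
    rw [map_mul, map_mul, MulEquiv.apply_symm_apply, h]
  · rw [mem_centralizer_singleton_iff, ← map_mul, ← map_mul]
    exact congrArg α (mem_centralizer_singleton_iff.1 y.2)
  · exact Subtype.ext (α.apply_symm_apply y.1)
  · exact Subtype.ext (α.symm_apply_apply y.1)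

/-- the classes of involutions -/
theorem classes {L : Type u} [Group L] (h : Cfsg.Spor.IsoHS L) : ∃ z w : L, ∃ ψ : L →* Equiv.Perm (Fin 100),
    Function.Injective ψ ∧ Pm L 7680 z ∧ Pm L 2880 w ∧ (∀ x, Pm L 7680 x → IsConj z x) ∧
    (∀ x, Pm L 2880 x → IsConj w x) ∧ (∀ x, x * x = 1 → x ≠ 1 → Pm L 7680 x ∨ Pm L 2880 x) ∧
    ∀ x, Pm L 2880 x → ∀ i, ψ x i ≠ i := by
  obtain ⟨D, ψ, R⟩ := exists_rep h
  refine ⟨KFacts.HS.DFour.zA D, KFacts.HS.DFour.wB D, ψ, R.inj,
    ⟨KFacts.HS.DFour.zA_sq D, KFacts.HS.DFour.zA_ne D, card_zA D⟩,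
    ⟨KFacts.HS.DFour.wB_sq D, KFacts.HS.DFour.wB_ne D, card_wB R⟩, ?_, ?_, ?_, ?_⟩
  · rintro x ⟨h1, h2, h3⟩
    rcases KFacts.HS.DFour.inv_cases D x h1 h2 with ⟨c, rfl⟩ | ⟨c, rfl⟩
    · exact isConj_iff.2 ⟨c, rfl⟩
    · rw [card_centralizer_conj, card_wB R] at h3
      omega
  · rintro x ⟨h1, h2, h3⟩
    rcases KFacts.HS.DFour.inv_cases D x h1 h2 with ⟨c, rfl⟩ | ⟨c, rfl⟩
    · rw [card_centralizer_conj, card_zA] at h3
      omega
    · exact isConj_iff.2 ⟨c, rfl⟩
  · intro x h1 h2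
    rcases R.inv_cases x h1 h2 with h3 | ⟨h3, -⟩
    · exact Or.inl ⟨h1, h2, h3⟩
    · exact Or.inr ⟨h1, h2, h3⟩
  · rintro x ⟨h1, h2, h3⟩
    rcases R.inv_cases x h1 h2 with h4 | ⟨-, h4⟩
    · omega
    · exact h4

/-- the stabiliser of two points -/
theorem card_two_point (A : AS G Ω T) (hG : Nat.card G ∣ 2 * Nat.card ↥T) (hN : Nat.card ↥T = 44352000)
    (hn : Nat.card Ω = 385) {a b : Ω} (hab : a ≠ b) :
    Nat.card ↥(stabilizer T a ⊓ stabilizer T b) = 300 ∨ Nat.card ↥(stabilizer T a ⊓ stabilizer T b) = 600 := by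
  obtain ⟨j, hj, -, h⟩ := exists_two_point A hG a b hab
  have h1 := A.card_mul a
  rw [hn, hN] at h1
  rw [hn] at h
  have h2 : Nat.card (stabilizer T a) = 115200 := by omega
  rw [h2] at h
  rcases (Nat.dvd_prime Nat.prime_two).1 hj with rfl | rfl <;> omega

/-- `2`-subgroups all of whose involutions are in the class 2B -/
theorem card_dvd_of_twoB {L : Type u} [Group L] [Finite L] {ψ : L →* Equiv.Perm (Fin 100)}
    (hψ : Function.Injective ψ) (hB : ∀ x, Pm L 2880 x → ∀ i, ψ x i ≠ i) (V : Subgroup L) (hV : IsPGroup 2 V)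
    (hVB : ∀ x ∈ V, x * x = 1 → x ≠ 1 → Pm L 2880 x) : Nat.card V ∣ 4 := by
  have h1 : Nat.card (V.map ψ) ∣ Nat.card (Fin 100) := by
    apply card_dvd_of_free
    rintro _ ⟨x, hx, rfl⟩ hx1 i hi
    have hx1' : x ≠ 1 := fun h => hx1 (by rw [h, map_one])
    -- a power of `x` is an involution
    obtain ⟨k, hk⟩ := hV ⟨x, hx⟩
    have hk' : x ^ 2 ^ k = 1 := congrArg Subtype.val hk
    have key : ∀ k : ℕ, ∀ y : L, y ∈ V → y ≠ 1 → ψ y i = i → y ^ 2 ^ k = 1 → False := by
      intro k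
      induction k with
      | zero =>
        intro y _ hy1 _ h
        rw [pow_zero, pow_one] at h
        exact hy1 h
      | succ k ih =>
        intro y hy hy1 hyi h
        by_cases h2 : y * y = 1
        · exact hB y (hVB y hy h2 hy1) i hyi
        · refine ih (y * y) (V.mul_mem hy hy) h2 ?_ ?_
          · rw [map_mul, Equiv.Perm.mul_apply, hyi, hyi]
          · rw [← pow_two, ← pow_mul, ← pow_succ']
            exact h
    exact key k x hx hx1' hi hk'
  have h0 : Nat.card (Fin 100) = 100 := by simp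
  rw [h0, ← Nat.card_congr (V.equivMapOfInjective ψ hψ).toEquiv] at h1
  obtain ⟨k, hk⟩ := IsPGroup.iff_card.1 hV
  rw [hk] at h1 ⊢
  have h2 : 2 ^ k ∣ 2 ^ 2 * 25 := by simpa using h1
  have h3 : Nat.Coprime (2 ^ k) 25 := Nat.Coprime.pow_left k (by norm_num)
  exact h3.dvd_of_dvd_mul_right h2

theorem arithA {f c : ℕ} (h1 : f < 385) (h4 : (((385 : ℕ) : ℤ) - 1) ∣ ((5775 : ℕ) : ℤ) * ((f : ℤ) - 1))
    (h5 : 385 * (385 - 1) * c = 5775 * (f * (f - 1))) (hc : c ≤ 600) : f = 1 := by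
  have h2 : (128 : ℤ) ∣ (f : ℤ) - 1 := by
    push_cast at h4
    omega
  have h3 : f = 1 ∨ f = 129 ∨ f = 257 := by omega
  rcases h3 with h3 | h3 | h3
  · exact h3
  · rw [h3] at h5
    omega
  · rw [h3] at h5
    omega

theorem arithB {g c : ℕ} (h4 : (((385 : ℕ) : ℤ) - 1) ∣ ((15400 : ℕ) : ℤ) * ((g : ℤ) - 1))
    (h5 : 385 * (385 - 1) * c = 15400 * (g * (g - 1))) (hc : c ≤ 600) : g = 1 ∨ g = 49 := by
  have h2 : (48 : ℤ) ∣ (g : ℤ) - 1 := by
    push_cast at h4
    omega
  have h3 : g = 1 ∨ g = 49 ∨ 97 ≤ g := by omega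
  rcases h3 with h3 | h3 | h3
  · exact Or.inl h3
  · exact Or.inr h3
  · exfalso
    have h6 : 15400 * (97 * 96) ≤ 15400 * (g * (g - 1)) :=
      Nat.mul_le_mul_left _ (Nat.mul_le_mul h3 (by omega))
    rw [← h5] at h6
    omega

theorem arithS {c d e : ℕ} (hc4 : c ∣ 4) (hc : 0 < c) (hd : ¬ 2 ∣ d) (h : c * d = e) (he : e = 300 ∨ e = 600) :
    c = 4 ∧ d = 75 := by
  have h1 : c ≤ 4 := Nat.le_of_dvd (by norm_num) hc4
  have h2 : c = 1 ∨ c = 2 ∨ c = 4 := by
    interval_cases c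
    · exact Or.inl rfl
    · exact Or.inr (Or.inl rfl)
    · omega
    · exact Or.inr (Or.inr rfl)
  rcases h2 with rfl | rfl | rfl <;> omega

theorem arithC {c : ℕ} (h : 385 * (385 - 1) * c = 15400 * (49 * (49 - 1))) (h' : c ≤ (4 - 1) * 75) : False := by
  omega

theorem not_385 (A : AS G Ω T) (h : Cfsg.Spor.IsoHS T) (hG : Nat.card G ∣ 2 * Nat.card ↥T) : Nat.card Ω ≠ 385 := by
  intro hn
  have := A.finG
  have := A.finΩ
  have := A.finT
  have hN : Nat.card T = 44352000 := KFacts.HS.card h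
  obtain ⟨z, w, ψ, hψ, hz, hw, hzc, hwc, hcases, hB⟩ := classes h
  obtain ⟨f, hf1, hf2, -, hf4, hf5⟩ := class_data A (Pm T 7680) Pm_aut hz hz.2.1 hzc (k := 5775)
    (by rw [hz.2.2, hN])
  obtain ⟨g, hg1, hg2, -, hg4, hg5⟩ := class_data A (Pm T 2880) Pm_aut hw hw.2.1 hwc (k := 15400)
    (by rw [hw.2.2, hN])
  obtain ⟨a⟩ : Nonempty Ω := by have := A.nontrivialΩ; infer_instance
  obtain ⟨b, hb⟩ := A.two_ne a
  have hab : a ≠ b := hb.symm
  have hcard := card_two_point A hG hN hn hab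
  set S : Subgroup T := stabilizer T a ⊓ stabilizer T b with hSdef
  rw [hn] at hf1 hf4 hf5 hg1 hg4 hg5
  have hf5' := hf5 a b hab
  have hg5' := hg5 a b hab
  have hle : ∀ m, {x : T | Pm T m x ∧ x • a = a ∧ x • b = b}.ncard ≤ {x : S | x * x = 1 ∧ x ≠ 1}.ncard := by
    intro m
    have h1 : {x : T | Pm T m x ∧ x • a = a ∧ x • b = b} ⊆ Subtype.val '' {x : S | x * x = 1 ∧ x ≠ 1} := by
      rintro x ⟨⟨h1, h2, -⟩, h3, h4⟩
      exact ⟨⟨x, h3, h4⟩, ⟨Subtype.ext h1, fun h => h2 (congrArg Subtype.val h)⟩, rfl⟩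
    refine (Set.ncard_le_ncard h1 (Set.toFinite _)).trans ?_
    rw [Set.ncard_image_of_injective _ Subtype.val_injective]
  have hSle : {x : S | x * x = 1 ∧ x ≠ 1}.ncard ≤ 600 := by
    refine (Set.ncard_le_ncard (Set.subset_univ _) (Set.toFinite _)).trans ?_
    rw [Set.ncard_univ]
    rcases hcard with h1 | h1 <;> rw [h1] <;> norm_num
  have hcA := (hle 7680).trans hSle
  have hcB := (hle 2880).trans hSle
  have hf : f = 1 := arithA hf1 hf4 hf5' hcA
  have hg : g = 1 ∨ g = 49 := arithB hg4 hg5' hcB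
  -- the involutions of `S` are in the class 2B
  have hSB : ∀ x : T, x ∈ S → x * x = 1 → x ≠ 1 → Pm T 2880 x := by
    intro x hx h1 h2
    rcases hcases x h1 h2 with h3 | h3
    · exfalso
      rw [hf] at hf5'
      norm_num at hf5'
      have h5 : x ∈ {x : T | Pm T 7680 x ∧ x • a = a ∧ x • b = b} := ⟨h3, hx.1, hx.2⟩
      have h6 := (Set.ncard_pos (Set.toFinite _)).2 ⟨x, h5⟩
      omega
    · exact h3
  have heq : {x : T | Pm T 2880 x ∧ x • a = a ∧ x • b = b}.ncard = {x : S | x * x = 1 ∧ x ≠ 1}.ncard := by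
    have h1 : {x : T | Pm T 2880 x ∧ x • a = a ∧ x • b = b} = Subtype.val '' {x : S | x * x = 1 ∧ x ≠ 1} := by
      ext x
      constructor
      · rintro ⟨⟨h1, h2, -⟩, h3, h4⟩
        exact ⟨⟨x, h3, h4⟩, ⟨Subtype.ext h1, fun h => h2 (congrArg Subtype.val h)⟩, rfl⟩
      · rintro ⟨y, ⟨h1, h2⟩, rfl⟩
        exact ⟨hSB y y.2 (congrArg Subtype.val h1) (fun h => h2 (Subtype.ext h)), y.2.1, y.2.2⟩
    rw [h1, Set.ncard_image_of_injective _ Subtype.val_injective]
  -- a Sylow `2`-subgroup of `S`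
  obtain ⟨V⟩ : Nonempty (Sylow 2 S) := inferInstance
  have hV4 : Nat.card V ∣ 4 := by
    have h1 := card_dvd_of_twoB hψ hB ((V : Subgroup S).map S.subtype) (V.isPGroup'.map _) (by
      rintro _ ⟨y, hy, rfl⟩ h1 h2
      exact hSB y y.2 h1 h2)
    rwa [← Nat.card_congr ((V : Subgroup S).equivMapOfInjective _ S.subtype_injective).toEquiv] at h1
  have hVi : ¬ 2 ∣ (V : Subgroup S).index := V.not_dvd_index
  have hVm := (V : Subgroup S).card_mul_index
  have hV : Nat.card V = 4 ∧ (V : Subgroup S).index = 75 := arithS hV4 Nat.card_pos hVi hVm hcard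
  have hinv := card_involutions_le V
  rw [hV.1, hV.2] at hinv
  rw [← heq] at hinv
  rcases hg with hg | hg
  · -- no involutions
    rw [hg] at hg5'
    norm_num at hg5'
    rw [hg5'] at heq
    have h1 : 2 ∣ Nat.card S := by
      have hc' : Nat.card S = 300 ∨ Nat.card S = 600 := hcard
      omega
    obtain ⟨x, hx⟩ := exists_prime_orderOf_dvd_card' 2 h1
    have h2 : x ∈ {x : S | x * x = 1 ∧ x ≠ 1} := by
      refine ⟨?_, fun h => ?_⟩
      · rw [← pow_two, ← hx, pow_orderOf_eq_one]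
      · rw [h, orderOf_one] at hx
        omega
    have h3 := (Set.ncard_pos (Set.toFinite _)).2 ⟨x, h2⟩
    rw [← heq] at h3
    exact absurd h3 (lt_irrefl _)
  · rw [hg] at hg5'
    exact arithC hg5' hinv

/-- **The row `HS`.** -/
theorem row (OT : OrdDiv.OrderTable.{u})
    (hS : ∀ (X : Type u) [Group X] [Finite X] [IsSimpleGroup X], Cfsg.IsKnownSimple' X)
    (A : AS G Ω T) (h : Cfsg.Spor.IsoHS T) : Known2 T (Nat.card Ω) := by
  have := A.finT
  have := A.finΩ
  have := A.faithfulT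
  have hG : Nat.card G ∣ 2 * Nat.card ↥T := card_dvd A (by rw [KFacts.HS.index_inn h])
  have h1 := mem_survives A (KFacts.HS.card h) hG (js := [1, 2]) (fun j hj => by
    rcases (Nat.dvd_prime Nat.prime_two).1 hj with rfl | rfl <;> simp) valid_lHS (data OT hS h)
  rw [survives_HS] at h1
  simp only [List.mem_cons, List.not_mem_nil, or_false] at h1
  rcases h1 with h1 | h1 | h1
  · exact absurd h1 (not_385 A h hG)
  · have h2 := le_card (X := Ω) h
    omega
  · rw [h1]
    exact Known2.hs h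

end

end Cfsg.Agent.H904.TwoHS
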