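import Mathlib
import Cfsg.Agent.H374.SpFour
import Cfsg.Agent.LieClassical.SympCenter
import Cfsg.Agent.LieClassical.SUBasic
import Cfsg.Agent.ClassicalGeometry.PSLTorus
import Cfsg.Agent.UThreeOdd.Final

/-!
# Elements of order 65 in `L₂(64)`, `S₄(8)`, `L₄(8)`, `U₄(8)`, `S₆(8)`
-/

set_option autoImplicit false

namespace Cfsg.Agent.H904.Ord65

open Matrix

section Eight

variable {F : Type*} [Field F] [Fintype F]

theorem ringChar_eq_two {k : ℕ} (hF : Fintype.card F = 2 ^ k) : ringChar F = 2 := by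
  obtain ⟨n, hp, hcard⟩ := FiniteField.card F (ringChar F)
  have h1 : ringChar F ∣ 2 ^ k := by
    rw [← hF, hcard]; exact dvd_pow_self _ n.2.ne'
  exact (Nat.prime_dvd_prime_iff_eq hp Nat.prime_two).1 (hp.dvd_of_dvd_pow h1)

theorem charP_two {k : ℕ} (hF : Fintype.card F = 2 ^ k) : CharP F 2 := by
  rw [← ringChar_eq_two hF]; infer_instance

theorem exists_psp (hF : Fintype.card F = 8) : ∃ x : Cfsg.PSp 2 F, orderOf x = 65 := by
  have h := (H374.SpFour.mem_range_iff (F := F) (by omega) 65).2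
  have : (65 : ℕ) ∈ Set.range (orderOf : Cfsg.PSp 2 F → ℕ) := by
    apply h
    rw [ringChar_eq_two (k := 3) (by rw [hF]; norm_num), hF]
    exact Or.inr (Or.inr (Or.inr (Or.inl (by norm_num))))
  exact this

/-- A symplectic matrix of order 65, no proper power of which is a scalar. -/
theorem exists_sp (hF : Fintype.card F = 8) :
    ∃ A ∈ symplecticGroup (Fin 2) F, A ^ 65 = 1 ∧ ∀ k : ℕ, (∃ c : F, A ^ k = c • 1) → 65 ∣ k := by
  obtain ⟨x, hx⟩ := exists_psp hF
  obtain ⟨A, hA, rfl⟩ := H374.SpFour.cl_surj x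
  have hch : CharP F 2 := charP_two (k := 3) (by rw [hF]; norm_num)
  refine ⟨A, hA, ?_, fun k hk => ?_⟩
  · have h1 : (H374.SpFour.cl A hA) ^ 65 = 1 := by rw [← hx]; exact pow_orderOf_eq_one _
    obtain ⟨c, hc⟩ := H374.SpFour.cl_pow_eq_one.1 h1
    have hc2 := H374.SpFour.sq_of_scalar hA hc
    have : c = 1 := by
      have h3 : (c - 1) ^ 2 = 0 := by
        rw [sub_sq, hc2]
        have : (2 : F) = 0 := CharTwo.two_eq_zero
        rw [this]; ring_nf
        linear_combination this
      exact sub_eq_zero.1 (pow_eq_zero_iff (by norm_num) |>.1 h3)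
    rw [hc, this, one_smul]
  · rw [← hx]
    exact orderOf_dvd_of_pow_eq_one (H374.SpFour.cl_pow_eq_one.2 hk)

theorem det_eq_one {ι : Type*} [Fintype ι] [DecidableEq ι] {K : Type*} [Field K] [CharP K 2]
    {A : Matrix (ι ⊕ ι) (ι ⊕ ι) K} (hA : A ∈ symplecticGroup ι K) : A.det = 1 := by
  have h := congrArg Matrix.det (SymplecticGroup.mem_iff.1 hA)
  rw [det_mul, det_mul, det_transpose] at h
  have hJ : (Matrix.J ι K).det ≠ 0 := (Matrix.isUnit_det_J ι K).ne_zero
  have h2 : A.det ^ 2 = 1 := by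
    have : (A.det ^ 2 - 1) * (Matrix.J ι K).det = 0 := by linear_combination h
    rcases mul_eq_zero.1 this with h3 | h3
    · exact sub_eq_zero.1 h3
    · exact absurd h3 hJ
  have h3 : (A.det - 1) ^ 2 = 0 := by
    have h4 : (2 : K) = 0 := CharTwo.two_eq_zero
    linear_combination h2 - (A.det - 1) * h4
  exact sub_eq_zero.1 (pow_eq_zero_iff (by norm_num) |>.1 h3)

end Eight

theorem reindex_pow {ι κ : Type*} [Fintype ι] [DecidableEq ι] [Fintype κ] [DecidableEq κ]
    {K : Type*} [Field K] (e : ι ≃ κ) (A : Matrix ι ι K) (k : ℕ) :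
    (reindex e e A) ^ k = reindex e e (A ^ k) := by
  exact (map_pow (reindexAlgEquiv K K e) A k).symm

/-- `L₄(8)` has an element of order 65. -/
theorem exists_psl {F : Type*} [Field F] [Fintype F] (hF : Fintype.card F = 8) :
    ∃ x : ProjectiveSpecialLinearGroup (Fin 4) F, orderOf x = 65 := by
  obtain ⟨A, hA, h65, hk⟩ := exists_sp hF
  have hch : CharP F 2 := charP_two (k := 3) (by rw [hF]; norm_num)
  let e : Fin 2 ⊕ Fin 2 ≃ Fin 4 := finSumFinEquiv
  let g : Matrix.SpecialLinearGroup (Fin 4) F := ⟨reindex e e A, by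
    rw [det_reindex_self]; exact det_eq_one hA⟩
  have hgk : ∀ k : ℕ, ((g ^ k : SpecialLinearGroup (Fin 4) F) : Matrix (Fin 4) (Fin 4) F) =
      reindex e e (A ^ k) := by
    intro k
    rw [Matrix.SpecialLinearGroup.coe_pow]
    exact reindex_pow e A k
  refine ⟨QuotientGroup.mk g, ?_⟩
  have h1 : (QuotientGroup.mk g : ProjectiveSpecialLinearGroup (Fin 4) F) ^ 65 = 1 := by
    rw [← QuotientGroup.mk_pow, QuotientGroup.eq_one_iff]
    have : g ^ 65 = 1 := by
      apply Subtype.ext
      rw [hgk, h65]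
      simp
    rw [this]; exact one_mem _
  apply Nat.dvd_antisymm (orderOf_dvd_of_pow_eq_one h1)
  apply hk
  have h2 : g ^ (orderOf (QuotientGroup.mk g : ProjectiveSpecialLinearGroup (Fin 4) F)) ∈
      Subgroup.center (SpecialLinearGroup (Fin 4) F) := by
    rw [← QuotientGroup.eq_one_iff, QuotientGroup.mk_pow]
    exact pow_orderOf_eq_one _
  obtain ⟨r, -, hr⟩ := Matrix.SpecialLinearGroup.mem_center_iff.1 h2
  refine ⟨r, ?_⟩
  rw [hgk] at hr
  have h3 := congrArg (reindex e.symm e.symm) hr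
  rw [← reindex_symm, Equiv.symm_apply_apply] at h3
  rw [← h3]
  ext i j
  by_cases hij : i = j
  · subst hij; simp [scalar_apply, reindex_apply]
  · simp [scalar_apply, reindex_apply, hij]

/-- `L₂(64)` has an element of order 65. -/
theorem exists_psl_two {F : Type*} [Field F] [Fintype F] (hF : Fintype.card F = 64) :
    ∃ x : ProjectiveSpecialLinearGroup (Fin 2) F, orderOf x = 65 := by
  obtain ⟨C, -, -, -, hC, hc, -⟩ := ClassicalGeometry.PSLTorus.exists_psl_torus F
  obtain ⟨x, hx⟩ := hC.exists_generator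
  refine ⟨x.1, ?_⟩
  have h1 : orderOf x = Nat.card C := orderOf_eq_card_of_forall_mem_zpowers hx
  rw [Subgroup.orderOf_coe, h1, hc, hF]
  norm_num

/-- Pairing of the index sets. -/
def ix : Fin 3 ⊕ Fin 3 ≃ (Fin 2 ⊕ Fin 2) ⊕ (Fin 1 ⊕ Fin 1) :=
  (Equiv.sumCongr (finSumFinEquiv (m := 2) (n := 1)).symm (finSumFinEquiv (m := 2) (n := 1)).symm).trans
    (Equiv.sumSumSumComm (Fin 2) (Fin 1) (Fin 2) (Fin 1))

theorem J_three (F : Type*) [Field F] :
    Matrix.J (Fin 3) F = reindex ix.symm ix.symm (fromBlocks (Matrix.J (Fin 2) F) 0 0 (Matrix.J (Fin 1) F)) := by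
  ext i j
  rcases i with i | i <;> rcases j with j | j <;> fin_cases i <;> fin_cases j <;>
    simp [Matrix.J, ix, finSumFinEquiv, Fin.addCases] 

/-- `S₆(8)` has an element of order 65. -/
theorem exists_psp_three {F : Type*} [Field F] [Fintype F] (hF : Fintype.card F = 8) :
    ∃ x : Cfsg.PSp 3 F, orderOf x = 65 := by
  obtain ⟨A, hA, h65, hk⟩ := exists_sp hF
  let B : Matrix (Fin 3 ⊕ Fin 3) (Fin 3 ⊕ Fin 3) F :=
    reindex ix.symm ix.symm (fromBlocks A 0 0 (1 : Matrix (Fin 1 ⊕ Fin 1) (Fin 1 ⊕ Fin 1) F))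
  have hB : B ∈ symplecticGroup (Fin 3) F := by
    rw [SymplecticGroup.mem_iff, J_three]
    simp only [B, reindex_apply, transpose_submatrix, submatrix_mul_equiv, fromBlocks_transpose,
      fromBlocks_multiply]
    simp [SymplecticGroup.mem_iff.1 hA]
  have hBk : ∀ k : ℕ, B ^ k = reindex ix.symm ix.symm (fromBlocks (A ^ k) 0 0 1) := by
    intro k
    simp only [B]
    rw [reindex_pow, fromBlocks_diagonal_pow, one_pow]
  let g : symplecticGroup (Fin 3) F := ⟨B, hB⟩
  refine ⟨QuotientGroup.mk g, ?_⟩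
  have h1 : (QuotientGroup.mk g : Cfsg.PSp 3 F) ^ 65 = 1 := by
    rw [← QuotientGroup.mk_pow, QuotientGroup.eq_one_iff]
    have : g ^ 65 = 1 := by
      apply Subtype.ext
      change B ^ 65 = 1
      rw [hBk, h65]
      simp
    rw [this]; exact one_mem _
  apply Nat.dvd_antisymm (orderOf_dvd_of_pow_eq_one h1)
  apply hk
  have h2 : g ^ (orderOf (QuotientGroup.mk g : Cfsg.PSp 3 F)) ∈
      Subgroup.center (symplecticGroup (Fin 3) F) := by
    rw [← QuotientGroup.eq_one_iff, QuotientGroup.mk_pow]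
    exact pow_orderOf_eq_one _
  obtain ⟨r, hr⟩ := (LieClassical.SympCenter.mem_center_iff 3 _).1 h2
  refine ⟨r, ?_⟩
  change B ^ _ = _ at hr
  rw [hBk] at hr
  have h3 := congrArg (fun M => toBlocks₁₁ (reindex ix ix M)) hr
  simp only [reindex_apply, submatrix_submatrix] at h3
  ext i j
  have h4 := congrFun (congrFun h3 i) j
  simpa [toBlocks₁₁, Matrix.smul_apply, one_apply] using h4

/-- Trace one. -/
theorem exists_trace {E : Type*} [Field E] [Fintype E] (hE : Fintype.card E = 64) :
    ∃ a : E, a ^ 8 + a = 1 := by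
  have hch : CharP E 2 := charP_two (k := 6) (by rw [hE]; norm_num)
  have h2 : (2 : E) = 0 := CharTwo.two_eq_zero
  classical
  -- some element is not fixed
  obtain ⟨θ, hθ⟩ : ∃ θ : E, θ ^ 8 + θ ≠ 0 := by
    by_contra hcon
    push Not at hcon
    have hP : (Polynomial.X ^ 8 + Polynomial.X : Polynomial E) ≠ 0 := by
      intro h0
      have := congrArg (fun P => Polynomial.coeff P 8) h0
      simp [Polynomial.coeff_X] at this
    have h1 : Fintype.card E ≤ (Polynomial.X ^ 8 + Polynomial.X : Polynomial E).natDegree := by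
      rw [← Finset.card_univ]
      refine (Finset.card_le_card (t := (Polynomial.X ^ 8 + Polynomial.X : Polynomial E).roots.toFinset)
        fun x _ => ?_).trans ((Multiset.toFinset_card_le _).trans (Polynomial.card_roots' _))
      rw [Multiset.mem_toFinset, Polynomial.mem_roots hP]
      simpa [Polynomial.IsRoot] using hcon x
    have h3 : (Polynomial.X ^ 8 + Polynomial.X : Polynomial E).natDegree = 8 := by
      compute_degree!
    omega
  have h64 : θ ^ 64 = θ := by rw [← hE]; exact FiniteField.pow_card θ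
  set t := θ ^ 8 + θ with ht
  have ht8 : t ^ 8 = t := by
    have : t ^ (2 ^ 3) = (θ ^ 8) ^ (2 ^ 3) + θ ^ (2 ^ 3) := add_pow_char_pow (θ ^ 8) θ 2 3
    norm_num at this
    rw [this, ← pow_mul, h64, ht, add_comm]
  refine ⟨θ / t, ?_⟩
  rw [div_pow, ht8, ← add_div, div_self hθ]


/-- `U₄(8)` has an element of order 65. -/
theorem exists_psu {F E : Type*} [Field F] [Fintype F] [Field E] [Fintype E]
    (hF : Fintype.card F = 8) (hE : Fintype.card E = 64) :
    ∃ x : Cfsg.PSU 4 E 8, orderOf x = 65 := by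
  obtain ⟨A, hA, h65, hk⟩ := exists_sp hF
  have hchF : CharP F 2 := charP_two (k := 3) (by rw [hF]; norm_num)
  have hch : CharP E 2 := charP_two (k := 6) (by rw [hE]; norm_num)
  have h2 : (2 : E) = 0 := CharTwo.two_eq_zero
  obtain ⟨f⟩ := UThreeOdd.Final.exists_embedding (F := F) (L := E) (q := 8) hF (by rw [hE]; norm_num)
  obtain ⟨a, ha⟩ := exists_trace hE
  -- the Frobenius `x ↦ x ^ 8`
  let φ : E →+* E := iterateFrobenius E 2 3
  have hφ : ∀ x : E, φ x = x ^ 8 := by
    intro x; simp [φ, iterateFrobenius_def]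
  have hfix : ∀ x : F, φ (f x) = f x := by
    intro x
    rw [hφ, ← map_pow, ← hF, FiniteField.pow_card]
  let B : Matrix (Fin 2 ⊕ Fin 2) (Fin 2 ⊕ Fin 2) E := A.map f
  have hBφ : B.map φ = B := by
    ext i j; simp [B, hfix]
  have hBk : ∀ k : ℕ, B ^ k = (A ^ k).map f := by
    intro k
    have := map_pow (RingHom.mapMatrix f) A k
    simpa [B] using this.symm
  -- `Bᵀ J B = J`
  have hJB : Bᵀ * Matrix.J (Fin 2) E * B = Matrix.J (Fin 2) E := by
    have h1 := SymplecticGroup.mem_iff'.1 hA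
    have h3 := congrArg (RingHom.mapMatrix f) h1
    rw [map_mul, map_mul] at h3
    have hJ : (RingHom.mapMatrix f) (Matrix.J (Fin 2) F) = Matrix.J (Fin 2) E := by
      simp [Matrix.J, fromBlocks_map, Matrix.map_neg]
    rw [hJ] at h3
    simpa [B, RingHom.mapMatrix_apply, transpose_map] using h3
  let Q : Matrix (Fin 2 ⊕ Fin 2) (Fin 2 ⊕ Fin 2) E :=
    fromBlocks 1 (a • 1) 1 ((a + 1) • 1)
  let Q' : Matrix (Fin 2 ⊕ Fin 2) (Fin 2 ⊕ Fin 2) E :=
    fromBlocks ((a + 1) • 1) (a • 1) 1 1
  have hn1 : (-1 : E) = 1 := by linear_combination -h2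
  have ha' : (a + 1) ^ 8 = a ^ 8 + 1 := by
    have := add_pow_char_pow a 1 2 3
    norm_num at this
    exact this
  have hQQ' : Q * Q' = 1 := by
    simp only [Q, Q', fromBlocks_multiply, ← fromBlocks_one]
    congr 1
    · simp only [one_mul, mul_one, ← add_smul]
      rw [show a + 1 + a = 1 by linear_combination a * h2, one_smul]
    · simp only [one_mul, mul_one, ← add_smul]
      rw [show a + a = 0 by linear_combination a * h2, zero_smul]
    · simp only [one_mul, mul_one, ← add_smul]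
      rw [show a + 1 + (a + 1) = 0 by linear_combination (a + 1) * h2, zero_smul]
    · simp only [one_mul, mul_one, ← add_smul]
      rw [show a + (a + 1) = 1 by linear_combination a * h2, one_smul]
  have hQ'Q : Q' * Q = 1 := mul_eq_one_comm.1 hQQ'
  have hQJ : Qᵀ * Q.map φ = Matrix.J (Fin 2) E := by
    have e1 : (1 : Matrix (Fin 2) (Fin 2) E).map φ = 1 := by simp
    have e2 : (a • (1 : Matrix (Fin 2) (Fin 2) E)).map φ = (a + 1) • 1 := by
      ext i j
      by_cases hij : i = j
      · subst hij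
        simp [hφ]
        linear_combination ha - a * h2
      · simp [hij, one_apply]
    have e3 : ((a + 1) • (1 : Matrix (Fin 2) (Fin 2) E)).map φ = a • 1 := by
      ext i j
      by_cases hij : i = j
      · subst hij
        simp [hφ, ha']
        linear_combination ha - (a - 1) * h2
      · simp [hij, one_apply]
    simp only [Q, fromBlocks_transpose, fromBlocks_map, e1, e2, e3, fromBlocks_multiply, Matrix.J]
    congr 1
    · simp only [transpose_one, one_mul, mul_one]
      ext i j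
      by_cases hij : i = j
      · subst hij
        simp
        linear_combination h2
      · simp [hij, one_apply]
    · simp only [transpose_one, one_mul, mul_one, ← add_smul]
      rw [show a + 1 + a = -1 by linear_combination (a + 1) * h2, neg_smul, one_smul]
    · simp only [transpose_smul, transpose_one, one_mul, mul_one, ← add_smul]
      rw [show a + (a + 1) = 1 by linear_combination a * h2, one_smul]
    · simp only [transpose_smul, transpose_one, one_mul, mul_one, smul_mul_smul_comm, ← add_smul]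
      rw [show a * (a + 1) + (a + 1) * a = 0 by linear_combination a * (a + 1) * h2, zero_smul]
  let M := Q * B * Q'
  have hM : Mᵀ * M.map φ = 1 := by
    have e1 : M.map φ = Q.map φ * B * Q'.map φ := by
      have := map_mul (RingHom.mapMatrix φ) (Q * B) Q'
      rw [map_mul] at this
      simpa [M, hBφ] using this
    have e2 : Q.map φ * Q'.map φ = 1 := by
      have := map_mul (RingHom.mapMatrix φ) Q Q'
      rw [hQQ', map_one] at this
      simpa using this.symm
    have e3 : Q'ᵀ * Qᵀ = 1 := by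
      rw [← transpose_mul, hQQ', transpose_one]
    calc Mᵀ * M.map φ = Q'ᵀ * (Bᵀ * (Qᵀ * Q.map φ) * B) * Q'.map φ := by
          rw [e1]; simp only [M, transpose_mul, Matrix.mul_assoc]
      _ = Q'ᵀ * (Qᵀ * Q.map φ) * Q'.map φ := by rw [hQJ, hJB]
      _ = 1 := by
          rw [← Matrix.mul_assoc Q'ᵀ, e3, one_mul, e2]
  have hMk : ∀ k : ℕ, M ^ k = Q * B ^ k * Q' := by
    intro k
    induction k with
    | zero => simp [hQQ']
    | succ k ih =>
      rw [pow_succ, ih, pow_succ]
      simp only [M]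
      calc Q * B ^ k * Q' * (Q * B * Q') = Q * B ^ k * (Q' * Q) * B * Q' := by
            simp only [Matrix.mul_assoc]
        _ = _ := by rw [hQ'Q, mul_one]; simp only [Matrix.mul_assoc]
  have hdet : M.det = 1 := by
    have e1 : B.det = 1 := by
      have := RingHom.map_det f A
      rw [det_eq_one hA, map_one] at this
      simpa [B] using this.symm
    simp only [M]
    rw [det_mul, det_mul, e1, mul_one, ← det_mul, hQQ', det_one]
  let e : Fin 2 ⊕ Fin 2 ≃ Fin 4 := finSumFinEquiv
  let N := reindex e e M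
  have hN : Nᵀ * N.map φ = 1 := by
    have e1 : N.map φ = reindex e e (M.map φ) := rfl
    have e2 : Nᵀ = reindex e e Mᵀ := rfl
    rw [e1, e2]
    simp only [reindex_apply, submatrix_mul_equiv]
    rw [hM]; simp
  let g0 : Matrix.SpecialLinearGroup (Fin 4) E := ⟨N, by
    simp only [N]; rw [det_reindex_self]; exact hdet⟩
  have hform : ∀ u v : Fin 4 → E, Cfsg.hermForm 4 E 8 u v = u ⬝ᵥ (φ ∘ v) := by
    intro u v
    simp [Cfsg.hermForm, dotProduct, hφ]
  have hg0 : g0 ∈ Cfsg.SU 4 E 8 := by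
    rw [LieClassical.SUBasic.mem_SU_iff]
    intro u v
    change Cfsg.hermForm 4 E 8 (N *ᵥ u) (N *ᵥ v) = _
    rw [hform, hform]
    have e1 : φ ∘ (N *ᵥ v) = (N.map φ) *ᵥ (φ ∘ v) := by
      ext i
      simp [mulVec, dotProduct, map_sum]
    rw [e1, dotProduct_mulVec, ← vecMul_transpose, vecMul_vecMul, hN, vecMul_one]
  let g : Cfsg.SU 4 E 8 := ⟨g0, hg0⟩
  have hgk : ∀ k : ℕ, (((g ^ k : Cfsg.SU 4 E 8) : Matrix.SpecialLinearGroup (Fin 4) E) :
      Matrix (Fin 4) (Fin 4) E) = reindex e e (M ^ k) := by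
    intro k
    change ((g0 ^ k : Matrix.SpecialLinearGroup (Fin 4) E) : Matrix (Fin 4) (Fin 4) E) = _
    rw [Matrix.SpecialLinearGroup.coe_pow]
    exact reindex_pow e M k
  refine ⟨QuotientGroup.mk g, ?_⟩
  have h1 : (QuotientGroup.mk g : Cfsg.PSU 4 E 8) ^ 65 = 1 := by
    rw [← QuotientGroup.mk_pow, QuotientGroup.eq_one_iff]
    have : g ^ 65 = 1 := by
      apply Subtype.ext
      apply Subtype.ext
      rw [hgk, hMk, hBk, h65]
      simp [hQQ']
    rw [this]; exact one_mem _
  apply Nat.dvd_antisymm (orderOf_dvd_of_pow_eq_one h1)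
  apply hk
  have h2 : g ^ (orderOf (QuotientGroup.mk g : Cfsg.PSU 4 E 8)) ∈
      Subgroup.center (Cfsg.SU 4 E 8) := by
    rw [← QuotientGroup.eq_one_iff, QuotientGroup.mk_pow]
    exact pow_orderOf_eq_one _
  obtain ⟨c, hc4, hc9, hr⟩ := (LieClassical.SUBasic.mem_center_SU_iff
    (by rw [hE]; norm_num) (by norm_num) _).1 h2
  have hc1 : c = 1 := by
    have : c ^ (8 + 1) = c ^ 4 * c ^ 4 * c := by ring
    rw [hc4, hc9, one_mul, one_mul] at this
    exact this.symm
  have h3 := congrArg (fun z : Cfsg.SU 4 E 8 => ((z : Matrix.SpecialLinearGroup (Fin 4) E) :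
      Matrix (Fin 4) (Fin 4) E)) hr
  simp only [hgk, hc1] at h3
  have h4 : M ^ (orderOf (QuotientGroup.mk g : Cfsg.PSU 4 E 8)) = 1 := by
    apply (reindex e e).injective
    rw [h3]
    simp
  refine ⟨1, ?_⟩
  rw [hMk, hBk] at h4
  have h5 : (A ^ (orderOf (QuotientGroup.mk g : Cfsg.PSU 4 E 8))).map f = 1 := by
    calc _ = Q' * (Q * (A ^ (orderOf (QuotientGroup.mk g : Cfsg.PSU 4 E 8))).map f * Q') * Q := by
          simp only [← Matrix.mul_assoc]
          rw [hQ'Q, one_mul, Matrix.mul_assoc, hQ'Q, mul_one]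
      _ = 1 := by rw [h4, mul_one, hQ'Q]
  rw [one_smul]
  ext i j
  apply f.injective
  have h6 := congrFun (congrFun h5 i) j
  rw [Matrix.map_apply] at h6
  rw [h6]
  by_cases hij : i = j
  · subst hij; simp
  · simp [hij]

end Cfsg.Agent.H904.Ord65
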