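import Cfsg.Agent.BpExc.RowsUntw
import Cfsg.Agent.S0001

/-!
# Elements of order `a b` are toral (helper904)

`k` an algebraic closure of the prime field `𝔽_p`, `D.group k` a Chevalley group (tabulated types), `x ∈ D.group k`
with `x ^ (a b) = 1`, `a ≠ b` primes different from `p`, `b` not dividing the order of the Weyl group: `x` is conjugate
into the diagonal subgroup, already over a finite field (`exists_level_toral`).

* `exists_fix` : commuting `t ∈ T` and `s`, `s ^ b = 1`, have a common fixed chamber;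
* `exists_conj_T` : a `p'`-element of `U ⊔ T` is conjugate into `T`;
* `conj_T_rp` : elements of `T` conjugate in `Y` are conjugate by a representative of an element of `W`.
-/

set_option autoImplicit false
set_option linter.unusedSectionVars false

namespace Cfsg.Agent.H904.TorPQ

open CoxeterSystem Cfsg.Agent.ChevalleyStructure.CoxeterGeom Cfsg.Agent.Tits.Roots Cfsg.Agent.Tits.Core
  Cfsg.Agent.Tits.RootComb Cfsg.Agent.Tits.Exchange Cfsg.Agent.Nodes.Reps Cfsg.Agent.Nodes.BNOf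
  Cfsg.Agent.Nodes.Comb Cfsg.Agent.Nodes.BNOf.RGD Cfsg.Agent.Nodes.Unique Cfsg.Agent.Nodes.CardSup
  Cfsg.Agent.Nodes.StabComb Cfsg.Agent.Nodes.Bruhat Cfsg.Agent.Nodes.OppDec Cfsg.Agent.Nodes.LeviDec
  Cfsg.Agent.Nodes.NormalForm Cfsg.Agent.KFacts.RgdOpp Cfsg.Agent.KFacts.RgdAut Cfsg.Agent.KFacts.RgdDiag
  Cfsg.Agent.KFacts.RgdRigid Cfsg.Agent.CpAut.RgdFix Cfsg.Agent.CpAut.RgdCoh Cfsg.Agent.CpAut.RgdConj
  Cfsg.Agent.BpExc.TorRgd
open scoped commutatorElement Pointwise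

section SZ

variable {G : Type*} [Group G] [Finite G]

theorem compl_of {U C : Subgroup G} (hC : C ≤ Subgroup.normalizer (U : Set G)) (hdis : U ⊓ C = ⊥) :
    Subgroup.IsComplement' (U.subgroupOf (U ⊔ C)) (C.subgroupOf (U ⊔ C)) := by
  apply Subgroup.isComplement'_of_disjoint_and_mul_eq_univ
  · rw [disjoint_iff, eq_bot_iff]
    rintro ⟨g, hg⟩ hgm
    have h1 : g ∈ U ⊓ C := ⟨hgm.1, hgm.2⟩
    rw [hdis, Subgroup.mem_bot] at h1
    rw [Subgroup.mem_bot]
    exact Subtype.ext h1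
  · rw [Set.eq_univ_iff_forall]
    rintro ⟨g, hg⟩
    have h1 : g ∈ ((C ⊔ U : Subgroup G) : Set G) := by rw [sup_comm]; exact hg
    rw [Subgroup.coe_mul_of_left_le_normalizer_right _ _ hC, Set.mem_mul] at h1
    obtain ⟨c, hc, u, hu, e⟩ := h1
    have hu' : c * u * c⁻¹ ∈ U := (Subgroup.mem_normalizer_iff.1 (hC hc) u).1 hu
    refine Set.mem_mul.2 ⟨⟨c * u * c⁻¹, Subgroup.mem_sup_left hu'⟩, hu', ⟨c, Subgroup.mem_sup_right hc⟩, hc, ?_⟩
    apply Subtype.ext
    show c * u * c⁻¹ * c = g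
    rw [inv_mul_cancel_right]
    exact e

theorem exists_conj_T {p : ℕ} [hp : Fact p.Prime] {U T : Subgroup G} (hT : T ≤ Subgroup.normalizer (U : Set G))
    (hdis : U ⊓ T = ⊥) (hU : IsPGroup p U) {x : G} (hx : ∃ u ∈ U, ∃ t ∈ T, x = u * t) {m : ℕ}
    (hxm : x ^ m = 1) (hm : m.Coprime p) : ∃ g : G, g * x * g⁻¹ ∈ T := by
  obtain ⟨u, hu, t, ht, rfl⟩ := hx
  have hxN : u * t ∈ Subgroup.normalizer (U : Set G) := mul_mem (Subgroup.le_normalizer hu) (hT ht)
  have hm0 : m ≠ 0 := by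
    rintro rfl
    exact hp.out.one_lt.ne' (by simpa using hm)
  -- powers
  have hpow : ∀ j : ℕ, ∃ v ∈ U, (u * t) ^ j = v * t ^ j := by
    intro j
    induction j with
    | zero => exact ⟨1, one_mem _, by simp⟩
    | succ j ih =>
      obtain ⟨v, hv, e⟩ := ih
      have h1 : t ^ j * u * (t ^ j)⁻¹ ∈ U := (Subgroup.mem_normalizer_iff.1 (pow_mem (hT ht) j) u).1 hu
      refine ⟨v * (t ^ j * u * (t ^ j)⁻¹), mul_mem hv h1, ?_⟩
      rw [pow_succ, e, pow_succ]
      group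
  have htm : t ^ m = 1 := by
    obtain ⟨v, hv, e⟩ := hpow m
    rw [hxm] at e
    have h1 : t ^ m = v⁻¹ := eq_inv_of_mul_eq_one_right e.symm
    have h2 : t ^ m ∈ U ⊓ T := Subgroup.mem_inf.2 ⟨by rw [h1]; exact U.inv_mem hv, T.pow_mem ht m⟩
    rwa [hdis, Subgroup.mem_bot] at h2
  -- coprime orders
  have hcop : ∀ c : G, c ^ m = 1 → U ⊓ Subgroup.zpowers c = ⊥ := by
    intro c hc
    rw [eq_bot_iff]
    rintro y ⟨hyU, hyc⟩
    obtain ⟨j, rfl⟩ := hyc
    obtain ⟨n, hn⟩ := hU ⟨c ^ j, hyU⟩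
    have hn' : (c ^ j) ^ p ^ n = 1 := congrArg Subtype.val hn
    have hm' : (c ^ j) ^ m = 1 := by
      rw [← zpow_natCast, ← zpow_mul, mul_comm, zpow_mul, zpow_natCast, hc, one_zpow]
    have h1 := orderOf_dvd_of_pow_eq_one hn'
    have h2 := orderOf_dvd_of_pow_eq_one hm'
    have h3 := Nat.dvd_gcd h2 h1
    rw [(hm.pow_right n : Nat.Coprime m (p ^ n)), Nat.dvd_one, orderOf_eq_one_iff] at h3
    exact h3
  have hcx := hcop _ hxm
  have hct := hcop _ htm
  have hN1 : Subgroup.zpowers (u * t) ≤ Subgroup.normalizer (U : Set G) := Subgroup.zpowers_le.2 hxN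
  have hN2 : Subgroup.zpowers t ≤ Subgroup.normalizer (U : Set G) := Subgroup.zpowers_le.2 (hT ht)
  have hL : U ⊔ Subgroup.zpowers (u * t) = U ⊔ Subgroup.zpowers t := by
    apply le_antisymm
    · refine sup_le le_sup_left (Subgroup.zpowers_le.2 ?_)
      exact mul_mem (Subgroup.mem_sup_left hu) (Subgroup.mem_sup_right (Subgroup.mem_zpowers t))
    · refine sup_le le_sup_left (Subgroup.zpowers_le.2 ?_)
      have h1 : t = u⁻¹ * (u * t) := by group
      rw [h1]
      exact mul_mem (Subgroup.mem_sup_left (inv_mem hu)) (Subgroup.mem_sup_right (by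
        rw [← h1]; exact Subgroup.mem_zpowers _))
  set L := U ⊔ Subgroup.zpowers (u * t) with hLdef
  have hLN : L ≤ Subgroup.normalizer (U : Set G) := sup_le Subgroup.le_normalizer hN1
  have hnorm : (U.subgroupOf L).Normal := Subgroup.normal_subgroupOf_of_le_normalizer hLN
  have c1 := compl_of hN1 hcx
  have c2 := compl_of hN2 hct
  rw [← hL] at c2
  have hsol : Group.IsSolvable ↥(U.subgroupOf L) := by
    have h1 : IsPGroup p ↥(U.subgroupOf L) := hU.comap_of_injective L.subtype L.subtype_injective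
    have := h1.isNilpotent
    infer_instance
  have hidx : (Nat.card ↥(U.subgroupOf L)).Coprime (U.subgroupOf L).index := by
    have h1 : IsPGroup p ↥(U.subgroupOf L) := hU.comap_of_injective L.subtype L.subtype_injective
    obtain ⟨n, hn⟩ := IsPGroup.iff_card.1 h1
    rw [hn]
    apply Nat.Coprime.pow_left
    have h2 : (U.subgroupOf L).index = Nat.card ↥((Subgroup.zpowers (u * t)).subgroupOf L) := c1.symm.index_eq_card
    rw [h2]
    have h3 : Nat.card ↥((Subgroup.zpowers (u * t)).subgroupOf L) = Nat.card ↥(Subgroup.zpowers (u * t)) :=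
      Nat.card_congr (Subgroup.subgroupOfEquivOfLe le_sup_right).toEquiv
    rw [h3, Nat.card_zpowers]
    exact (Nat.Coprime.coprime_dvd_left (orderOf_dvd_of_pow_eq_one hxm) hm).symm
  obtain ⟨g, hg⟩ := Cfsg.Agent.S0001.result (U.subgroupOf L) hidx (Or.inl hsol) _ _ c1 c2
  refine ⟨(g : G), ?_⟩
  have h1 : g * ⟨u * t, Subgroup.mem_sup_right (Subgroup.mem_zpowers _)⟩ * g⁻¹ ∈ (Subgroup.zpowers t).subgroupOf L := by
    rw [← hg]
    exact Subgroup.smul_mem_pointwise_smul _ (MulAut.conj g) _ (by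
      rw [Subgroup.mem_subgroupOf]; exact Subgroup.mem_zpowers _)
  have h2 : (g : G) * (u * t) * (g : G)⁻¹ ∈ Subgroup.zpowers t := h1
  exact (Subgroup.zpowers_le.2 ht) h2

end SZ

section RG

variable {I W Y : Type*} [Fintype I] [DecidableEq I] [Group W] [Group Y] {M : CoxeterMatrix I}
  {cs : CoxeterSystem M W} {A : I → I → ℤ} {h : IsCartan M A} {p : ℕ} {T : Subgroup Y} {n : I → Y}
  {X : (I → ℤ) → Subgroup Y} (R : RGD cs h p T n X)

include R

/-- `t ∈ T` and `s` commute, `s ^ b = 1`: a chamber fixed by both. -/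
theorem exists_fix [Finite W] [Finite Y] [Fact p.Prime] (hG : GG cs h T X = ⊤) {b : ℕ} (hb : b.Prime)
    {t s : Y} (ht : t ∈ T) (hts : s * t = t * s) (hs : s ^ b = 1)
    (hk : ∀ a, IsRoot cs h a → Nat.card ↥(XF X (MulAut.conj t) a) ≡ 1 [MOD b])
    (hW : ¬ b ∣ Nat.card W) : ∃ S : Sylow p Y, MulAut.conj t • S = S ∧ MulAut.conj s • S = S := by
  classical
  have D := Cfsg.Agent.BpExc.FamFrame.diag_conj R ht
  have h1 := card_fix_sylow_modEq R hG D hk
  let C := {S : Sylow p Y // MulAut.conj t • S = S}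
  have hst : MulAut.conj s * MulAut.conj t = MulAut.conj t * MulAut.conj s := by
    rw [← map_mul, ← map_mul, hts]
  let τ : Equiv.Perm C :=
    { toFun := fun S => ⟨MulAut.conj s • S.1, by rw [← mul_smul, ← hst, mul_smul, S.2]⟩
      invFun := fun S => ⟨(MulAut.conj s)⁻¹ • S.1, by
        rw [← mul_smul, show MulAut.conj t * (MulAut.conj s)⁻¹ = (MulAut.conj s)⁻¹ * MulAut.conj t by
          rw [mul_inv_eq_iff_eq_mul, mul_assoc, ← hst, inv_mul_cancel_left], mul_smul, S.2]⟩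
      left_inv := fun S => Subtype.ext (inv_smul_smul _ S.1)
      right_inv := fun S => Subtype.ext (smul_inv_smul _ S.1) }
  have hτ : ∀ (k : ℕ) (S : C), ((τ ^ k) S).1 = (MulAut.conj s ^ k) • S.1 := by
    intro k
    induction k with
    | zero => intro S; rw [pow_zero, pow_zero, one_smul]; rfl
    | succ k ih =>
      intro S
      rw [pow_succ, Equiv.Perm.mul_apply, ih, pow_succ, mul_smul]
      rfl
  have hτ1 : τ ^ b ^ 1 = 1 := by
    rw [pow_one]
    ext1 S
    apply Subtype.ext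
    rw [hτ, ← map_pow, hs, map_one, one_smul]
    rfl
  have hf : Fact b.Prime := ⟨hb⟩
  have : Fintype C := Fintype.ofFinite C
  obtain ⟨S, hS⟩ := Equiv.Perm.exists_fixed_point_of_prime (p := b) (n := 1) (α := C) (by
    rw [← Nat.card_eq_fintype_card]
    intro hd
    exact hW (Nat.modEq_zero_iff_dvd.1 (h1.symm.trans (Nat.modEq_zero_iff_dvd.2 hd)))) (σ := τ) hτ1
  exact ⟨S.1, S.2, congrArg Subtype.val hS⟩

theorem U_inf_T [Finite W] [Fact p.Prime] : RGD.Sup X (RGD.Pos cs h) ⊓ T = ⊥ := by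
  rw [eq_bot_iff]
  rintro y ⟨hyU, hyT⟩
  obtain ⟨k, hk⟩ := R.isPGroup_Upos ⟨y, hyU⟩
  have hk' : y ^ p ^ k = 1 := congrArg Subtype.val hk
  have h1 : orderOf y ∣ p ^ k := orderOf_dvd_of_pow_eq_one hk'
  have h2 : orderOf y ∣ Nat.card T := by
    have h3 := orderOf_dvd_natCard (⟨y, hyT⟩ : T)
    rwa [Subgroup.orderOf_mk] at h3
  have h3 := Nat.dvd_gcd h2 h1
  rw [(R.tcop.pow_right k : Nat.Coprime _ (p ^ k)), Nat.dvd_one, orderOf_eq_one_iff] at h3
  exact h3

/-- a `p'`-element fixing a chamber is conjugate into `T` -/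
theorem exists_conj_T_of_fix [Finite W] [Finite Y] [Fact p.Prime] (hG : GG cs h T X = ⊤) {x : Y} {m : ℕ}
    (hxm : x ^ m = 1) (hm : m.Coprime p) {S : Sylow p Y} (hS : MulAut.conj x • S = S) :
    ∃ g : Y, g * x * g⁻¹ ∈ T := by
  obtain ⟨P, hP⟩ := exists_sylow_eq R hG
  obtain ⟨g, hg⟩ := MulAction.exists_smul_eq Y P S
  have h1 : (g⁻¹ * x * g) • P = P := by
    rw [mul_smul, mul_smul, hg, show x • S = S from hS, ← hg, inv_smul_smul]
  rw [smul_eq_iff_mem_B R hG hP] at h1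
  obtain ⟨t, ht, u, hu, e⟩ := R.mem_B.1 h1
  obtain ⟨g', hg'⟩ := exists_conj_T (p := p) (U := RGD.Sup X (RGD.Pos cs h)) (T := T) R.T_le_normalizer_U
    (U_inf_T R) R.isPGroup_Upos (x := g⁻¹ * x * g) (m := m) ⟨t * u * t⁻¹,
      (Subgroup.mem_normalizer_iff.1 (R.T_le_normalizer_U ht) u).1 hu, t, ht, by rw [e]; group⟩ (by
    have h2 : (g⁻¹ * x * g) ^ m = g⁻¹ * x ^ m * g := by
      have h3 := conj_pow (i := m) (a := g⁻¹) (b := x)
      rwa [inv_inv] at h3
    rw [h2, hxm]; group) hm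
  exact ⟨g' * g⁻¹, by rw [show g' * g⁻¹ * x * (g' * g⁻¹)⁻¹ = g' * (g⁻¹ * x * g) * g'⁻¹ by group]; exact hg'⟩

/-- elements of `T` conjugate in `Y` are conjugate by a representative of an element of `W` -/
theorem conj_T_rp [Finite W] (hG : GG cs h T X = ⊤) {t t' g : Y} (ht : t ∈ T) (ht' : t' ∈ T)
    (hg : g * t * g⁻¹ = t') : ∃ w k, Rp cs R.nsys w k ∧ k * t * k⁻¹ = t' := by
  have hgG : g ∈ GG cs h T X := by rw [hG]; exact Subgroup.mem_top g
  obtain ⟨w, hw⟩ := (mem_GG R).1 hgG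
  obtain ⟨u, hu, k, hk, v, hv, rfl⟩ := exists_normal_form R hw
  have e1 : t' * u * t'⁻¹ * (t' * k) * v = u * (k * t) * (t⁻¹ * v * t) := by
    have h1 : (u * k * v) * t = t' * (u * k * v) := by rw [← hg]; group
    calc t' * u * t'⁻¹ * (t' * k) * v = t' * (u * k * v) := by group
      _ = (u * k * v) * t := h1.symm
      _ = _ := by group
  have hu' : t' * u * t'⁻¹ ∈ RGD.Sup X (RGD.Pos cs h) :=
    (Subgroup.mem_normalizer_iff.1 (R.T_le_normalizer_U ht') u).1 hu
  have hv' : t⁻¹ * v * t ∈ Sup X (NW cs h w) := by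
    have h1 := conj_mem_Sup R (rp_of_mem (cs := cs) (hN := R.nsys) (T.inv_mem ht)) (S := NW cs h w)
      (S' := NW cs h w) (fun x hx => hx.1) (fun x hx => by
        rw [map_one, Module.End.one_apply]; exact hx) hv
    rwa [inv_inv] at h1
  have hk1 : Rp cs R.nsys w (t' * k) := by
    have := (rp_of_mem (cs := cs) (hN := R.nsys) ht').mul hk
    rwa [one_mul] at this
  have h2 := (normal_form_unique R hu' hu hk1 (hk.mul_mem_right ht) hv hv' e1).2.1
  exact ⟨w, k, hk, by rw [mul_inv_eq_iff_eq_mul]; exact h2.symm⟩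

end RG

section Chev

open Cfsg.Lie Cfsg.Agent.ChevalleyStructure Cfsg.Agent.ChevalleyStructure.Elts
  Cfsg.Agent.Nodes.RGDChev Cfsg.Agent.KFacts.RgdField Cfsg.Agent.KFacts.RgdChevCoord
  Cfsg.Agent.CpAut.RgdSub Cfsg.Agent.ChevStructure.FieldMap Cfsg.Agent.BpExc.TorAll

universe u

variable {D : ChevalleyDatum} {l : ℕ} {M : CoxeterMatrix (Fin l)} (hp : IsType D l M)
  (p : ℕ) [Fact p.Prime]

section Fin

variable {K : Type u} [Field K] [Finite K] [CharP K p] {W : Type*} [Group W] (cs : CoxeterSystem M W)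

include p in
/-- the fixed points of `t ∈ T` on a root group -/
theorem card_XF_conj {t : ↥(D.group K)} (ht : t ∈ TT D K) {a : Fin l → ℤ} (ha : IsRoot cs hp.isCartan a) {b : ℕ}
    (hb : Nat.card K ≡ 1 [MOD b]) : Nat.card ↥(XF (XX D l K) (MulAut.conj t) a) ≡ 1 [MOD b] := by
  have C := coords (K := K) hp cs p
  have Ca := C.coord _ ha
  by_cases h1 : ch hp a t = 1
  · have h2 : Nat.card ↥(XF (XX D l K) (MulAut.conj t) a) = Nat.card K := by
      symm
      refine Nat.card_congr (Equiv.ofBijective (fun s : K => ⟨xc hp a s, ⟨(Ca.mem _).2 ⟨_, rfl⟩, ?_⟩⟩) ⟨?_, ?_⟩)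
      · show t * xc hp a s * t⁻¹ = xc hp a s
        rw [Ca.act t ht, h1, one_mul]
      · intro s s' e
        exact Ca.inj (congrArg Subtype.val e)
      · rintro ⟨y, hy, hy'⟩
        obtain ⟨s, rfl⟩ := (Ca.mem y).1 hy
        exact ⟨s, rfl⟩
    rw [h2]
    exact hb
  · have h2 : XF (XX D l K) (MulAut.conj t) a = ⊥ := by
      rw [eq_bot_iff]
      rintro y ⟨hy, hy'⟩
      obtain ⟨s, rfl⟩ := (Ca.mem y).1 hy
      have h3 : t * xc hp a s * t⁻¹ = xc hp a s := hy'
      rw [Ca.act t ht] at h3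
      have h4 := Ca.inj h3
      have h5 : s = 0 := by
        by_contra hs
        exact h1 (mul_right_cancel₀ hs (by rw [h4, one_mul]))
      rw [Subgroup.mem_bot, h5, Ca.zero]
    rw [h2, Subgroup.card_bot]

end Fin

section Lev

variable {k : Type u} [Field k] [IsAlgClosed k] [CharP k p]

include hp in
theorem map_diag_mono {m m' : ℕ} (h : m ∣ m') :
    (D.diagonalSubgroup ↥(EE p m : Subfield k)).map (glm D (EE p m)) ≤
      (D.diagonalSubgroup ↥(EE p m' : Subfield k)).map (glm D (EE p m')) := by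
  rw [Subgroup.map_le_iff_le_comap]
  conv_lhs => unfold ChevalleyDatum.diagonalSubgroup
  rw [Subgroup.closure_le]
  rintro g ⟨r, t, hr, ht, e⟩
  refine ⟨hG hp.inList r (⟨(t : k), EE_le p h t.2⟩ : ↥(EE p m')), hG_mem_diagonal hp.inList hr (fun h0 => ht ?_), ?_⟩
  · have h1 : (t : k) = 0 := congrArg (fun z : ↥(EE p m' : Subfield k) => (z : k)) h0
    exact Subtype.ext h1
  · apply Units.ext
    rw [glm_coe, glm_coe, coe_hG, e]
    unfold ChevalleyDatum.hMat
    rw [wordMat_map, wordMat_map]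
    rfl

include hp in
/-- every element of the diagonal subgroup lives over a finite subfield -/
theorem exists_diag_level (hk : HAlg p k) {g : GL D.Idx k} (hg : g ∈ D.diagonalSubgroup k) :
    ∃ m, 0 < m ∧ g ∈ (D.diagonalSubgroup ↥(EE p m : Subfield k)).map (glm D (EE p m)) := by
  let LL : Subgroup (GL D.Idx k) :=
    { carrier := {g | ∃ m, 0 < m ∧ g ∈ (D.diagonalSubgroup ↥(EE p m : Subfield k)).map (glm D (EE p m))}
      mul_mem' := by
        rintro a b ⟨m, hm, ha⟩ ⟨m', hm', hb⟩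
        exact ⟨m * m', Nat.mul_pos hm hm', mul_mem (map_diag_mono hp p (Dvd.intro _ rfl) ha)
          (map_diag_mono hp p (Dvd.intro_left _ rfl) hb)⟩
      one_mem' := ⟨1, one_pos, one_mem _⟩
      inv_mem' := by
        rintro a ⟨m, hm, ha⟩
        exact ⟨m, hm, inv_mem ha⟩ }
  have h1 : D.diagonalSubgroup k ≤ LL := by
    unfold ChevalleyDatum.diagonalSubgroup
    rw [Subgroup.closure_le]
    rintro g ⟨r, t, hr, ht, e⟩
    obtain ⟨m, hm, h⟩ := hk t
    refine ⟨m, hm, hG hp.inList r (⟨t, (mem_EE p).2 h⟩ : ↥(EE p m)), hG_mem_diagonal hp.inList hr (fun h0 => ht ?_),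
      ?_⟩
    · exact congrArg Subtype.val h0
    · apply Units.ext
      rw [glm_coe, coe_hG, e]
      unfold ChevalleyDatum.hMat
      rw [wordMat_map]
      rfl
  exact h1 hg

include hp in
/-- **Elements of order dividing `a b` are toral**, over a finite subfield. -/
theorem exists_level_toral (hk : HAlg p k) {x : GL D.Idx k} (hx : x ∈ D.group k) {a b : ℕ} (ha : a.Prime)
    (hb : b.Prime) (hap : a ≠ p) (hbp : b ≠ p) (hab : a ≠ b) (hxab : x ^ (a * b) = 1)
    (hW : ¬ b ∣ Nat.card M.Group) :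
    ∃ N, 0 < N ∧ ∃ x' : ↥(D.group ↥(EE p N : Subfield k)), glm D (EE p N) x' = x ∧
      ∃ g : ↥(D.group ↥(EE p N : Subfield k)), g * x' * g⁻¹ ∈ TT D ↥(EE p N : Subfield k) := by
  have hpp : p.Prime := Fact.out
  obtain ⟨z, hz, hzt⟩ := exists_conj_mem_diag hp p hk (x := x ^ b) (pow_mem hx b) ha hap (by
    rw [← pow_mul, mul_comm, hxab])
  obtain ⟨m0, hm0, x0, hx0, hxx0⟩ := exists_level hp p hk hx
  obtain ⟨m2, hm2, hz2⟩ := exists_level hp p hk hz
  obtain ⟨m3, hm3, ht3⟩ := exists_diag_level hp p hk hzt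
  set N := m0 * m2 * m3 * b.totient with hNdef
  have hN : 0 < N := Nat.mul_pos (Nat.mul_pos (Nat.mul_pos hm0 hm2) hm3) (Nat.totient_pos.2 hb.pos)
  have h0N : m0 ∣ N := ⟨m2 * m3 * b.totient, by rw [hNdef]; ring⟩
  have h2N : m2 ∣ N := ⟨m0 * m3 * b.totient, by rw [hNdef]; ring⟩
  have h3N : m3 ∣ N := ⟨m0 * m2 * b.totient, by rw [hNdef]; ring⟩
  obtain ⟨x', hx', hxx'⟩ := map_group_mono hp p h0N
    (show x ∈ (D.group ↥(EE p m0 : Subfield k)).map (glm D (EE p m0)) from ⟨x0, hx0, hxx0⟩)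
  obtain ⟨z', hz', hzz'⟩ := map_group_mono hp p h2N hz2
  obtain ⟨t', ht', htt'⟩ := map_diag_mono hp p h3N ht3
  have hfinN : Finite ↥(EE p N : Subfield k) := finite_EE p hN
  have : CharP ↥(EE p N : Subfield k) p := charP_fixF p _
  have : Finite (GL D.Idx ↥(EE p N : Subfield k)) := inferInstance
  have hGfin : Finite ↥(D.group ↥(EE p N : Subfield k)) := inferInstance
  have hWfin := finite_W hp (M.toCoxeterSystem)
  have R := rgd (K := ↥(EE p N : Subfield k)) hp M.toCoxeterSystem p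
  have hG := GG_eq_top (T := TT D ↥(EE p N : Subfield k)) (G1_eq_top (K := ↥(EE p N : Subfield k)) hp M.toCoxeterSystem)
  have hinj := glm_injective (D := D) (EE p N : Subfield k)
  let X : ↥(D.group ↥(EE p N : Subfield k)) := ⟨x', hx'⟩
  let Z : ↥(D.group ↥(EE p N : Subfield k)) := ⟨z', hz'⟩
  have hXab : X ^ (a * b) = 1 := by
    apply Subtype.ext
    apply hinj
    show glm D (EE p N) (x' ^ (a * b)) = glm D (EE p N) 1
    rw [map_pow, hxx', hxab, map_one]
  have hzxt : z' * x' ^ b * z'⁻¹ = t' := by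
    apply hinj
    rw [map_mul, map_mul, map_inv, map_pow, hxx', hzz', htt']
  let Q : ↥(D.group ↥(EE p N : Subfield k)) := Z * X * Z⁻¹
  have hQpow : ∀ j : ℕ, Q ^ j = Z * X ^ j * Z⁻¹ := fun j => conj_pow
  have hQab : Q ^ (a * b) = 1 := by rw [hQpow, hXab]; group
  have ht : Q ^ b ∈ TT D ↥(EE p N : Subfield k) := by
    rw [hQpow, Subgroup.mem_subgroupOf]
    show z' * x' ^ b * z'⁻¹ ∈ _
    rw [hzxt]
    exact ht'
  have hcard : Nat.card ↥(EE p N : Subfield k) ≡ 1 [MOD b] := by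
    rw [card_EE p hN, hNdef, mul_comm, pow_mul]
    have h1 := (Nat.ModEq.pow_totient ((Nat.coprime_primes hpp hb).2 (Ne.symm hbp))).pow (m0 * m2 * m3)
    rwa [one_pow] at h1
  obtain ⟨S, hS1, hS2⟩ := exists_fix R hG hb (t := Q ^ b) (s := Q ^ a) ht (by rw [← pow_add, ← pow_add, add_comm])
    (by rw [← pow_mul, hQab]) (fun c hc => card_XF_conj hp p M.toCoxeterSystem ht hc hcard) hW
  have hS3 : MulAut.conj Q • S = S := by
    have hcop : IsCoprime (a : ℤ) (b : ℤ) := Nat.isCoprime_iff_coprime.2 ((Nat.coprime_primes ha hb).2 hab)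
    obtain ⟨u, v, huv⟩ := hcop
    have h1 : Q = (Q ^ a) ^ u * (Q ^ b) ^ v := by
      rw [← zpow_natCast, ← zpow_natCast, ← zpow_mul, ← zpow_mul, ← zpow_add, mul_comm (a : ℤ), mul_comm (b : ℤ), huv,
        zpow_one]
    have hst : ∀ {y : ↥(D.group ↥(EE p N : Subfield k))}, MulAut.conj y • S = S →
        MulAut.conj y ∈ MulAction.stabilizer (MulAut ↥(D.group ↥(EE p N : Subfield k))) S := fun h => h
    have h2 := mul_mem (zpow_mem (hst hS2) u) (zpow_mem (hst hS1) v)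
    rw [← map_zpow, ← map_zpow, ← map_mul, ← h1] at h2
    exact h2
  obtain ⟨g, hg⟩ := exists_conj_T_of_fix R hG (x := Q) (m := a * b) hQab
    (Nat.Coprime.mul_left ((Nat.coprime_primes ha hpp).2 hap) ((Nat.coprime_primes hb hpp).2 hbp)) hS3
  refine ⟨N, hN, X, hxx', g * Z, ?_⟩
  rw [show g * Z * X * (g * Z)⁻¹ = g * Q * g⁻¹ by simp only [Q]; group]
  exact hg

end Lev

end Chev

end Cfsg.Agent.H904.TorPQ
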